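import Cfsg.Agent.AschbacherOrth.Reduction

/-!
Descent to subfields for groups of isometries in odd dimension.
-/

set_option autoImplicit false

namespace CfsgLib.AschbacherOrth

open Matrix CfsgLib.Aschbacher CfsgLib.StdForms

variable {m : ℕ} {F : Type*} [Field F] [Fintype F]

set_option quotPrecheck false
local notation "V" => (Idx m → F)
local notation "QQ" => (⇑(oddQ m F))
local notation "pol" => QuadraticMap.polar (⇑(oddQ m F))
local notation "OO" => Cfsg.Geo.omegaGL (ι := Idx m) (F := F) (⇑(oddQ m F))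

theorem mem_subfieldSubgroup_mul_scalar {F₁ : Subfield F} {P g : GL (Idx m) F} (s : Fˣ)
    (h : g ∈ Cfsg.Geo.subfieldSubgroup F₁ P) :
    g ∈ Cfsg.Geo.subfieldSubgroup F₁ (P * scalarGL s) := by
  obtain ⟨c, hc, hcg⟩ := exists_smul_of_mem_subfieldSubgroup h
  refine mem_subfieldSubgroup_of hc ?_
  have e : (P * scalarGL s)⁻¹ * g * (P * scalarGL s) = P⁻¹ * g * P := by
    rw [_root_.mul_inv_rev]
    calc (scalarGL s)⁻¹ * P⁻¹ * g * (P * scalarGL s)
        = (scalarGL s)⁻¹ * (P⁻¹ * g * P * scalarGL s) := by simp only [mul_assoc]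
      _ = (scalarGL s)⁻¹ * (scalarGL s * (P⁻¹ * g * P)) := by
          rw [scalars_comm (scalarGL_mem s) (g := P⁻¹ * g * P)]
      _ = _ := inv_mul_cancel_left _ _
  have e' := congrArg mat e
  simp only [mat, Units.val_mul] at e' ⊢
  rw [e']
  exact hcg

/-- The normaliser of an absolutely irreducible group of isometries realisable over a proper subfield lies in a
subfield group carrying the form. -/
theorem exists_quad_subfield (h2 : (2 : F) ≠ 0) {F₀ : Subfield F} (h0 : F₀ ≠ ⊤)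
    {H R : Subgroup (GL (Idx m) F)} (hn : Normalizes H R) (hRO : R ≤ OO)
    (hR : Cfsg.Geo.ActsAbsolutelyIrreducibly (Cfsg.Geo.matrixSet R))
    (hreal : Cfsg.Geo.RealisableOver F₀ (Cfsg.Geo.matrixSet R)) :
    ∃ (F₁ : Subfield F) (r : ℕ) (P : GL (Idx m) F), r.Prime ∧ Fintype.card F = Nat.card F₁ ^ r ∧
      Cfsg.Geo.IsQuadFormRationalStructure QQ F₁ P ∧ H ≤ Cfsg.Geo.subfieldSubgroup F₁ P := by
  obtain ⟨F₁, r, hr, hle, hcard⟩ := exists_prime_index_subfield h0
  obtain ⟨B, hB⟩ := hreal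
  have hB₁ : ∀ x ∈ R, ∀ i j, (mat B * mat x * mat B⁻¹) i j ∈ F₁ := fun x hx i j =>
    hle (hB _ (mem_matrixSet hx) i j)
  set G := Cfsg.Geo.gramMatrix (F := F) (κ := Idx m) pol with hG
  set G' := (mat B⁻¹)ᵀ * G * mat B⁻¹ with hG'
  have hGu : IsUnit G := gram_isUnit isSesq_polar (pol_nondegenerate h2)
  have hGu' : IsUnit G' := by
    rw [hG']
    exact ((Matrix.isUnit_transpose (mat B⁻¹)).2 (B⁻¹).isUnit |>.mul hGu).mul (B⁻¹).isUnit
  obtain ⟨i₀, j₀, hij⟩ : ∃ i j, G' i j ≠ 0 := by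
    by_contra hall
    simp only [not_exists, not_not] at hall
    exact hGu'.ne_zero (Matrix.ext hall)
  obtain ⟨f, hf, -⟩ := Submodule.exists_dual_map_eq_bot_of_notMem
    (R := F₁) (p := (⊥ : Submodule F₁ F)) (x := G' i₀ j₀) (by simpa using hij) inferInstance
  let X : Matrix (Idx m) (Idx m) F := fun i j => (f (G' i j) : F)
  have e1 : ∀ a : F, a ∈ F₁ → ∀ b : F, (f (a * b) : F) = a * (f b : F) := fun a ha b => by
    have : f ((⟨a, ha⟩ : F₁) • b) = (⟨a, ha⟩ : F₁) * f b := f.map_smul _ b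
    exact congrArg Subtype.val this
  have hinv : ∀ x ∈ R, (mat (B * x * B⁻¹))ᵀ * G' * mat (B * x * B⁻¹) = G' := by
    intro x hx
    have h := gram_of_mem (hRO hx)
    rw [← hG] at h
    have hb : mat B⁻¹ * mat (B * x * B⁻¹) = mat x * mat B⁻¹ := by
      rw [mat_conj, ← mul_assoc, ← mul_assoc, mat_inv_mul, one_mul]
    calc (mat (B * x * B⁻¹))ᵀ * G' * mat (B * x * B⁻¹)
        = (mat B⁻¹ * mat (B * x * B⁻¹))ᵀ * G * (mat B⁻¹ * mat (B * x * B⁻¹)) := by
          rw [hG', Matrix.transpose_mul]; simp only [mul_assoc]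
      _ = (mat B⁻¹)ᵀ * ((mat x)ᵀ * G * mat x) * mat B⁻¹ := by
          rw [hb, Matrix.transpose_mul]; simp only [mul_assoc]
      _ = G' := by rw [h, hG']
  have hX : ∀ x ∈ R, (mat (B * x * B⁻¹))ᵀ * X * mat (B * x * B⁻¹) = X := by
    intro x hx
    set A := mat (B * x * B⁻¹) with hA
    have hAF : ∀ i j, A i j ∈ F₁ := fun i j => by rw [hA, mat_conj]; exact hB₁ x hx i j
    ext i j
    have h := congrArg (fun M : Matrix (Idx m) (Idx m) F => (f (M i j) : F)) (hinv x hx)
    simp only [Matrix.mul_apply, Matrix.transpose_apply, Finset.sum_mul, map_sum,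
      AddSubmonoidClass.coe_finsetSum, ← hA] at h ⊢
    refine (Finset.sum_congr rfl fun k _ => Finset.sum_congr rfl fun l _ => ?_).trans h
    rw [show A l i * G' l k * A k j = (A l i * A k j) * G' l k by ring,
      e1 _ (F₁.mul_mem (hAF l i) (hAF k j))]
    show A l i * X l k * A k j = _
    simp only [X]
    ring
  obtain ⟨Gi, hGi, hiG⟩ : ∃ Gi : Matrix (Idx m) (Idx m) F, G' * Gi = 1 ∧ Gi * G' = 1 :=
    ⟨↑hGu'.unit⁻¹, IsUnit.mul_val_inv hGu', IsUnit.val_inv_mul hGu'⟩
  obtain ⟨c, hc⟩ := commute_of_absIrred hR (M := mat B⁻¹ * (Gi * X) * mat B) fun x hx => by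
    set A := mat (B * x * B⁻¹) with hA
    set Ai := mat (B * x * B⁻¹)⁻¹ with hAi
    have h1 : X * A = (Ai)ᵀ * X := by
      calc X * A = (A * Ai)ᵀ * (X * A) := by rw [hA, hAi, mat_mul_inv, Matrix.transpose_one, one_mul]
        _ = Aiᵀ * (Aᵀ * X * A) := by rw [Matrix.transpose_mul]; simp only [mul_assoc]
        _ = _ := by rw [hA, hX x hx]
    have h2' : G' * A = (Ai)ᵀ * G' := by
      calc G' * A = (A * Ai)ᵀ * (G' * A) := by rw [hA, hAi, mat_mul_inv, Matrix.transpose_one, one_mul]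
        _ = Aiᵀ * (Aᵀ * G' * A) := by rw [Matrix.transpose_mul]; simp only [mul_assoc]
        _ = _ := by rw [hA, hinv x hx]
    have h3 : Gi * X * A = A * (Gi * X) := by
      calc Gi * X * A = Gi * (Aiᵀ * (G' * Gi)) * X := by rw [mul_assoc, h1, hGi, mul_one]; simp only [mul_assoc]
        _ = Gi * (G' * A) * Gi * X := by rw [h2']; simp only [mul_assoc]
        _ = A * (Gi * X) := by rw [← mul_assoc Gi, hiG, one_mul, mul_assoc]
    have hxA : mat x = mat B⁻¹ * A * mat B := by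
      rw [hA, mat_conj]
      simp only [mul_assoc, mat_inv_mul, mul_one]
      rw [← mul_assoc, mat_inv_mul, one_mul]
    rw [hxA]
    calc mat B⁻¹ * (Gi * X) * mat B * (mat B⁻¹ * A * mat B)
        = mat B⁻¹ * (Gi * X * (mat B * mat B⁻¹) * A) * mat B := by simp only [mul_assoc]
      _ = mat B⁻¹ * (A * (mat B * mat B⁻¹) * (Gi * X)) * mat B := by
          rw [mat_mul_inv, mul_one, mul_one, h3]
      _ = _ := by simp only [mul_assoc]
  have hGX : X = c • G' := by
    have h := congrArg (fun M => G' * (mat B * M * mat B⁻¹)) hc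
    have e : mat B * (mat B⁻¹ * (Gi * X) * mat B) * mat B⁻¹ = Gi * X := by
      calc mat B * (mat B⁻¹ * (Gi * X) * mat B) * mat B⁻¹
          = (mat B * mat B⁻¹) * (Gi * X) * (mat B * mat B⁻¹) := by simp only [mul_assoc]
        _ = _ := by rw [mat_mul_inv, one_mul, mul_one]
    simp only [e] at h
    rw [← mul_assoc, hGi, one_mul] at h
    rw [h, Matrix.mul_smul, Matrix.smul_mul, mul_one, mat_mul_inv, Matrix.mul_smul, mul_one]
  have hc0 : c ≠ 0 := by
    rintro rfl
    apply hf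
    have h := congrFun (congrFun hGX i₀) j₀
    simp only [zero_smul, Matrix.zero_apply, X] at h
    exact Subtype.ext h
  have hrel : (mat B⁻¹)ᵀ * G * mat B⁻¹ = c⁻¹ • X := by
    rw [← hG', hGX, smul_smul, inv_mul_cancel₀ hc0, one_smul]
  obtain ⟨s, hs⟩ := exists_rescale h2 (B := B⁻¹) (F₁ := F₁) (fun i j => (f (G' i j)).2) hrel
  exact ⟨F₁, r, _, hr, hcard, hs, fun h hh =>
    mem_subfieldSubgroup_mul_scalar s (normalizer_le_subfield hR hB₁ hn hh)⟩

/-- An absolutely irreducible group fixing a quadratic and a unitary form in odd dimension is realisable over the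
fixed field of the involution. -/
theorem realisable_of_unitary (h2 : (2 : F) ≠ 0) {R : Subgroup (GL (Idx m) F)} (hRO : R ≤ OO)
    (hR : Cfsg.Geo.ActsAbsolutelyIrreducibly (Cfsg.Geo.matrixSet R))
    {σ : F ≃+* F} {f : V → V → F} (hf : Cfsg.Geo.IsUnitaryForm σ f)
    (hfix : Cfsg.Geo.FixesForm (Cfsg.Geo.matrixSet R) f) :
    ∃ F₀ : Subfield F, F₀ ≠ ⊤ ∧ Cfsg.Geo.RealisableOver F₀ (Cfsg.Geo.matrixSet R) := by
  classical
  obtain ⟨a, ha⟩ : ∃ a, σ a ≠ a := by
    by_contra hall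
    simp only [not_exists, not_not] at hall
    exact hf.ne_refl (RingEquiv.ext hall)
  set G := Cfsg.Geo.gramMatrix (F := F) (κ := Idx m) pol with hG
  set Ff := Cfsg.Geo.gramMatrix f with hFf
  have hGu : IsUnit G := gram_isUnit isSesq_polar (pol_nondegenerate h2)
  have hFu : IsUnit Ff := gram_isUnit (isSesq_of_unitary hf) hf.nondegenerate
  obtain ⟨Gi, hGi, hiG⟩ : ∃ Gi : Matrix (Idx m) (Idx m) F, G * Gi = 1 ∧ Gi * G = 1 :=
    ⟨↑hGu.unit⁻¹, IsUnit.mul_val_inv hGu, IsUnit.val_inv_mul hGu⟩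
  obtain ⟨Fi, hFi, hiF⟩ : ∃ Fi : Matrix (Idx m) (Idx m) F, Ff * Fi = 1 ∧ Fi * Ff = 1 :=
    ⟨↑hFu.unit⁻¹, IsUnit.mul_val_inv hFu, IsUnit.val_inv_mul hFu⟩
  set A := Fi * G with hA
  have hmapmap : ∀ M : Matrix (Idx m) (Idx m) F, (M.map σ).map σ = M := fun M => by
    ext i j; exact hf.involutive _
  have hAx : ∀ x ∈ R, A * mat x = (mat x).map σ * A := by
    intro x hx
    have hGx := gram_of_mem (hRO hx)
    rw [← hG] at hGx
    have hFx := (isSesq_of_unitary hf).gram_of_eq (c := (1 : F)) (g := mat x)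
      fun u v => by rw [one_mul]; exact hfix _ (mem_matrixSet hx) u v
    rw [← hFf, one_smul] at hFx
    have k1 : (mat x⁻¹)ᵀ * G = G * mat x := by
      calc (mat x⁻¹)ᵀ * G = (mat x⁻¹)ᵀ * ((mat x)ᵀ * G * mat x) := by rw [hGx]
        _ = (mat x * mat x⁻¹)ᵀ * (G * mat x) := by rw [Matrix.transpose_mul]; simp only [mul_assoc]
        _ = _ := by rw [mat_mul_inv, Matrix.transpose_one, one_mul]
    have k2 : (mat x⁻¹)ᵀ * Ff = Ff * (mat x).map σ := by
      calc (mat x⁻¹)ᵀ * Ff = (mat x⁻¹)ᵀ * ((mat x)ᵀ * Ff * (mat x).map σ) := by rw [hFx]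
        _ = (mat x * mat x⁻¹)ᵀ * (Ff * (mat x).map σ) := by
          rw [Matrix.transpose_mul]; simp only [mul_assoc]
        _ = _ := by rw [mat_mul_inv, Matrix.transpose_one, one_mul]
    calc A * mat x = Fi * ((mat x⁻¹)ᵀ * (Ff * Fi) * G) := by rw [hFi, mul_one, k1, hA, mul_assoc]
      _ = Fi * (Ff * (mat x).map σ) * Fi * G := by rw [← k2]; simp only [mul_assoc]
      _ = _ := by rw [← mul_assoc Fi, hiF, one_mul, hA]; simp only [mul_assoc]
  obtain ⟨c, hc⟩ := commute_of_absIrred hR (M := A.map σ * A) fun x hx => by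
    have h := congrArg (fun M : Matrix (Idx m) (Idx m) F => M.map σ) (hAx x hx)
    simp only [map_mat_mul, hmapmap] at h
    rw [mul_assoc, hAx x hx, ← mul_assoc, h, mul_assoc]
  have hdA : A.det ≠ 0 := by
    have h1 : A * (Gi * Ff) = 1 := by
      calc A * (Gi * Ff) = Fi * (G * Gi) * Ff := by rw [hA]; simp only [mul_assoc]
        _ = 1 := by rw [hGi, mul_one, hiF]
    exact left_ne_zero_of_mul_eq_one (show A.det * (Gi * Ff).det = 1 by rw [← Matrix.det_mul, h1, Matrix.det_one])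
  have hdet : σ A.det * A.det = c ^ (2 * m + 1) := by
    have h := congrArg Matrix.det hc
    rw [Matrix.det_mul, Matrix.det_smul, Matrix.det_one, mul_one, card_idx] at h
    rw [← h]
    congr 1
    exact RingHom.map_det σ.toRingHom A
  have hc0 : c ≠ 0 := by
    rintro rfl
    rw [zero_pow (by omega)] at hdet
    exact mul_ne_zero ((map_ne_zero σ).2 hdA) hdA hdet
  have hσc : σ c = c := by
    have h := congrArg (fun M : Matrix (Idx m) (Idx m) F => M.map σ) hc
    simp only [map_mat_mul, hmapmap] at h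
    have hsc : (c • (1 : Matrix (Idx m) (Idx m) F)).map σ = σ c • 1 := by
      ext i j
      by_cases hij : i = j <;> simp [hij]
    rw [hsc] at h
    have hAu : IsUnit A := (Matrix.isUnit_iff_isUnit_det A).2 (Ne.isUnit hdA)
    have h' : A * (A.map σ * A) = A * A.map σ * A := (mul_assoc _ _ _).symm
    rw [hc, h, Matrix.mul_smul, Matrix.smul_mul, mul_one, one_mul] at h'
    obtain ⟨i, j, hne⟩ : ∃ i j, A i j ≠ 0 := by
      by_contra hall
      simp only [not_exists, not_not] at hall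
      exact hAu.ne_zero (Matrix.ext hall)
    have h'' := congrFun (congrFun h' i) j
    simp only [Matrix.smul_apply, smul_eq_mul] at h''
    exact (mul_right_cancel₀ hne h'').symm
  set μ := c ^ m / A.det with hμ
  have hμμ : σ μ * μ * c = 1 := by
    rw [hμ, map_div₀, map_pow, hσc]
    have hσd : σ A.det ≠ 0 := (map_ne_zero σ).2 hdA
    field_simp
    rw [hdet]; ring
  set A' := μ • A with hA'
  have hA'1 : A'.map σ * A' = 1 := by
    have hsm : A'.map σ = σ μ • A.map σ := by ext i j; simp [hA']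
    rw [hsm, hA', Matrix.smul_mul, Matrix.mul_smul, hc, smul_smul, smul_smul, hμμ, one_smul]
  have hA'x : ∀ x ∈ R, A' * mat x = (mat x).map σ * A' := fun x hx => by
    rw [hA', Matrix.smul_mul, hAx x hx, Matrix.mul_smul]
  let τ : V → V := fun v => A'.map σ *ᵥ fun i => σ (v i)
  have hmv : ∀ (M : Matrix (Idx m) (Idx m) F) (v : V),
      (fun i => σ ((M *ᵥ v) i)) = M.map σ *ᵥ fun i => σ (v i) := fun M v => by
    funext i
    simp [Matrix.mulVec, dotProduct, map_sum, map_mul]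
  have hτadd : ∀ u v, τ (u + v) = τ u + τ v := fun u v => by
    simp only [τ, Pi.add_apply, map_add]
    exact Matrix.mulVec_add _ _ _
  have hτsmul : ∀ (b : F) v, τ (b • v) = σ b • τ v := fun b v => by
    simp only [τ, Pi.smul_apply, smul_eq_mul, map_mul]
    exact Matrix.mulVec_smul _ (σ b) _
  have hττ : ∀ v, τ (τ v) = v := fun v => by
    show A'.map σ *ᵥ (fun i => σ ((A'.map σ *ᵥ fun k => σ (v k)) i)) = v
    rw [hmv, hmapmap, Matrix.mulVec_mulVec, hA'1]
    simp [hf.involutive]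
  have hτx : ∀ x ∈ R, ∀ v, τ (mat x *ᵥ v) = mat x *ᵥ τ v := fun x hx v => by
    show A'.map σ *ᵥ (fun i => σ ((mat x *ᵥ v) i)) = _
    rw [hmv, Matrix.mulVec_mulVec]
    show _ = mat x *ᵥ (A'.map σ *ᵥ _)
    rw [Matrix.mulVec_mulVec]
    congr 1
    have h := congrArg (fun M : Matrix (Idx m) (Idx m) F => M.map σ) (hA'x x hx)
    simp only [map_mat_mul, hmapmap] at h
    exact h
  let S : Set V := {v | τ v = v}
  have hspanS : Submodule.span F S = ⊤ := by
    rw [eq_top_iff]
    rintro v -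
    have h1 : v + τ v ∈ Submodule.span F S :=
      Submodule.subset_span (show τ (v + τ v) = v + τ v by rw [hτadd, hττ, add_comm])
    have h3 : a • v + σ a • τ v ∈ Submodule.span F S :=
      Submodule.subset_span (show τ (a • v + σ a • τ v) = a • v + σ a • τ v by
        rw [hτadd, hτsmul, hτsmul, hττ, hf.involutive, add_comm])
    have h4 : (a - σ a) • v ∈ Submodule.span F S := by
      have : (a - σ a) • v = (a • v + σ a • τ v) - σ a • (v + τ v) := by module
      rw [this]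
      exact Submodule.sub_mem _ h3 (Submodule.smul_mem _ _ h1)
    exact ((Submodule.span F S).smul_mem_iff (sub_ne_zero.2 (Ne.symm ha))).1 h4
  obtain ⟨b, hbS, hbspan, hbli⟩ := exists_linearIndependent F S
  rw [hspanS] at hbspan
  let bas : Module.Basis b F V := Module.Basis.mk hbli (by simp [hbspan])
  haveI : Finite b := Module.Finite.finite_basis bas
  haveI : Fintype b := Fintype.ofFinite b
  let bI : Module.Basis (Idx m) F V := bas.reindex (Fintype.equivOfCardEq (by
    rw [← Module.finrank_eq_card_basis bas, Module.finrank_fintype_fun_eq_card]))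
  have hfixb : ∀ i, τ (bI i) = bI i := fun i => by
    simp only [bI, Module.Basis.reindex_apply, bas, Module.Basis.mk_apply]
    exact hbS (Subtype.mem _)
  let Bm : Matrix (Idx m) (Idx m) F := Matrix.of fun k i => bI i k
  have hBu : IsUnit Bm := Matrix.linearIndependent_cols_iff_isUnit.1 bI.linearIndependent
  have hBmv : ∀ y, Bm *ᵥ y = ∑ i, y i • bI i := fun y => by
    funext k
    simp [Bm, Matrix.mulVec, dotProduct, Finset.sum_apply, mul_comm]
  let F₀ : Subfield F := σ.toRingHom.eqLocusField (RingHom.id F)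
  refine ⟨F₀, fun htop => ha ?_, (hBu.unit)⁻¹, forall_matrixSet.2 fun x hx i j => ?_⟩
  · have : a ∈ F₀ := htop ▸ trivial
    exact this
  show σ _ = _
  rw [inv_inv]
  set y : V := (mat hBu.unit⁻¹ * mat x * Bm) *ᵥ Pi.single j 1 with hy
  have hBj : Bm *ᵥ Pi.single j 1 = bI j := by
    funext k
    simp [Bm]
  have hBy : Bm *ᵥ y = mat x *ᵥ bI j := by
    rw [hy, Matrix.mulVec_mulVec, ← mul_assoc, ← mul_assoc]
    rw [show Bm * mat hBu.unit⁻¹ = 1 from mat_mul_inv hBu.unit, one_mul, ← Matrix.mulVec_mulVec, hBj]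
  have hτsum : ∀ z : V, τ (Bm *ᵥ z) = Bm *ᵥ fun i => σ (z i) := fun z => by
    rw [hBmv, hBmv]
    let T : V →+ V := AddMonoidHom.mk' τ hτadd
    show T _ = _
    rw [map_sum]
    exact Finset.sum_congr rfl fun i _ => by
      show τ _ = _
      rw [hτsmul, hfixb]
  have hfix' : Bm *ᵥ (fun i => σ (y i)) = Bm *ᵥ y := by
    rw [← hτsum, hBy, hτx x hx, hfixb]
  have h := congrFun (Matrix.mulVec_injective_iff_isUnit.2 hBu hfix') i
  have hyi : y i = (mat hBu.unit⁻¹ * mat x * Bm) i j := by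
    rw [hy, Matrix.mulVec_single_one]
    rfl
  rw [hyi] at h
  exact h

theorem bot_subfield_ne_top (hq : ¬ (Fintype.card F).Prime) : (⊥ : Subfield F) ≠ ⊤ := by
  intro htop
  obtain ⟨p, hchar⟩ := CharP.exists F
  haveI := hchar
  haveI : Fact p.Prime := ⟨CharP.char_is_prime F p⟩
  have hsurj : Function.Surjective (ZMod.castHom (dvd_refl p) F) := by
    rw [← RingHom.fieldRange_eq_top_iff, ZMod.fieldRange_castHom_eq_bot, htop]
  have hle := Fintype.card_le_of_surjective _ hsurj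
  obtain ⟨k, hp, hk⟩ := FiniteField.card F p
  rw [ZMod.card, hk] at hle
  have h1 : (k : ℕ) = 1 := by
    by_contra h
    have h2 : 2 ≤ (k : ℕ) := by have := k.pos; omega
    have := Nat.pow_lt_pow_right hp.one_lt (show 1 < (k : ℕ) by omega)
    rw [pow_one] at this
    omega
  exact hq (by rw [hk, h1, pow_one]; exact hp)

/-- An orthogonally monomial group over a non-prime field lies in a subfield group carrying the form. -/
theorem monomial_subfield (h2 : (2 : F) ≠ 0) (hq : ¬ (Fintype.card F).Prime)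
    {D : Fin (Fintype.card (Idx m)) → Submodule F V}
    (hD : Cfsg.Geo.IsOrthogonalMDecomposition QQ 1 D) {H : Subgroup (GL (Idx m) F)} (hHO : H ≤ OO)
    (hst : H ≤ Cfsg.Geo.decompositionStabilizer D) :
    ∃ (F₁ : Subfield F) (r : ℕ) (P : GL (Idx m) F), r.Prime ∧ Fintype.card F = Nat.card F₁ ^ r ∧
      Cfsg.Geo.IsQuadFormRationalStructure QQ F₁ P ∧ H ≤ Cfsg.Geo.subfieldSubgroup F₁ P := by
  classical
  obtain ⟨F₁, r, hr, -, hcard⟩ := exists_prime_index_subfield (bot_subfield_ne_top hq)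
  have hd1 := hD.decomp.decomp
  let i₀ : Fin (Fintype.card (Idx m)) := ⟨0, Fintype.card_pos⟩
  obtain ⟨v₀, hv₀, hv₀0⟩ : ∃ v ∈ D i₀, v ≠ 0 := (Submodule.ne_bot_iff _).1 fun h => by
    have := hd1.finrank_eq i₀
    rw [h, finrank_bot] at this
    exact zero_ne_one this
  have hQ₀ : QQ v₀ ≠ 0 := by
    intro h
    obtain ⟨⟨x, hx, hxv⟩, -⟩ := hD.decomp.nondegenerate i₀ v₀ hv₀ hv₀0
    obtain ⟨c, rfl⟩ := line_eq_smul (hd1.finrank_eq i₀) hv₀ hv₀0 hx
    rw [QuadraticMap.polar_smul_left, CfsgLib.Spinor.polar_self', h] at hxv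
    simp at hxv
  have hv : ∀ i, ∃ v ∈ D i, QQ v = QQ v₀ := fun i => by
    obtain ⟨e, he⟩ := hD.isometric i₀ i
    exact ⟨e ⟨v₀, hv₀⟩, (e ⟨v₀, hv₀⟩).2, he ⟨v₀, hv₀⟩⟩
  choose v hvD hvQ using hv
  have hv0 : ∀ i, v i ≠ 0 := fun i h => hQ₀ (by
    rw [← hvQ i, h, QuadraticMap.map_zero])
  let e : Idx m ≃ Fin (Fintype.card (Idx m)) := Fintype.equivFin _
  let Pm : Matrix (Idx m) (Idx m) F := Matrix.of fun k i => v (e i) k
  have hPm : IsUnit Pm := Matrix.linearIndependent_cols_iff_isUnit.1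
    ((hd1.indep.comp e.injective).linearIndependent _ (fun i => hvD (e i)) fun i => hv0 _)
  set P : GL (Idx m) F := hPm.unit with hP
  have hPcol : ∀ j, mat P *ᵥ Pi.single j 1 = v (e j) := fun j => by
    funext k
    simp [hP, mat, Pm]
  have hgram : (mat P)ᵀ * Cfsg.Geo.gramMatrix pol * mat P =
      QQ v₀ • ((2 : F) • (1 : Matrix (Idx m) (Idx m) F)) := by
    ext i j
    have h := pol_mulVec (mat P) (Pi.single i 1) (Pi.single j 1)
    rw [hPcol, hPcol, Matrix.mulVec_single_one, single_dotProduct, one_mul] at h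
    refine Eq.trans h.symm ?_
    rcases eq_or_ne i j with rfl | hij
    · rw [CfsgLib.Spinor.polar_self', hvQ]
      simp [mul_comm]
    · rw [hD.decomp.orthogonal (e i) (e j) (e.injective.ne hij) _ (hvD _) _ (hvD _)]
      simp [hij]
  obtain ⟨s, hs⟩ := exists_rescale h2 (B := P) (F₁ := F₁) (fun i j => by
    rcases eq_or_ne i j with rfl | hij
    · simp only [Matrix.smul_apply, Matrix.one_apply_eq, smul_eq_mul, mul_one]
      rw [← one_add_one_eq_two]
      exact F₁.add_mem F₁.one_mem F₁.one_mem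
    · simp [hij]) hgram
  refine ⟨F₁, r, _, hr, hcard, hs, fun g hg => mem_subfieldSubgroup_mul_scalar s ?_⟩
  refine mem_subfieldSubgroup_of one_ne_zero fun k j => ?_
  rw [one_mul]
  obtain ⟨σ, hσ⟩ := hst hg
  obtain ⟨c, hc⟩ := line_eq_smul (hd1.finrank_eq (σ (e j))) (hvD _) (hv0 _)
    (map_le_iff.1 (hσ (e j)).le _ (hvD (e j)))
  have hc2 : c * c = 1 := by
    have h := omega_isometry (hHO hg) (v (e j))
    rw [← hc, QuadraticMap.map_smul, hvQ, hvQ, smul_eq_mul] at h
    exact (mul_eq_right₀ hQ₀).1 h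
  have hentry : (mat P⁻¹ * mat g * mat P) k j =
      c * (Pi.single (e.symm (σ (e j))) (1 : F) : V) k := by
    have h := congrArg (fun w => (mat P⁻¹ *ᵥ w) k) hc
    simp only [Matrix.mulVec_smul, Pi.smul_apply, smul_eq_mul] at h
    have e1 : v (σ (e j)) = mat P *ᵥ Pi.single (e.symm (σ (e j))) 1 := by
      rw [hPcol, Equiv.apply_symm_apply]
    rw [e1, inv_mulVec_mulVec, ← hPcol j, Matrix.mulVec_mulVec, Matrix.mulVec_mulVec,
      Matrix.mulVec_single_one] at h
    exact h.symm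
  rw [hentry]
  have hcF : c ∈ F₁ := by
    rcases mul_self_eq_one_iff.1 hc2 with h | h <;> rw [h]
    · exact F₁.one_mem
    · exact F₁.neg_mem F₁.one_mem
  refine F₁.mul_mem hcF ?_
  rw [Pi.single_apply]
  split_ifs
  · exact F₁.one_mem
  · exact F₁.zero_mem

end CfsgLib.AschbacherOrth
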