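import Cfsg.Agent.AschbacherQuad.NotLe
import Cfsg.Agent.TensorNonmax.Power

/-!
`Ω` maps some pure tensor off the pure tensors, hence lies in no stabiliser of a tensor square.
-/

set_option autoImplicit false
set_option linter.unusedSectionVars false
set_option maxHeartbeats 1000000

namespace CfsgLib.AschbacherOrth

attribute [-simp] RingEquiv.coe_refl

open Matrix Cfsg.Geo CfsgLib.Aschbacher CfsgLib.AschbacherForms CfsgLib.AschbacherQuad
open scoped Kronecker

variable {ι : Type} [Fintype ι] [DecidableEq ι] {F : Type*} [Field F] [Fintype F] {Q : (ι → F) → F}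

local notation "B" => QuadraticMap.polar Q

/-- A group mapping pure tensors of two spaces to pure tensors contains no `Ω`. -/
theorem not_le_of_maps_pure (hQ : IsNondegenerateQuadraticForm Q) (hn : 7 ≤ Fintype.card ι)
    {k d : ℕ} (hk : 2 ≤ k) (hd : 3 ≤ d) (hkd : k + d + 3 ≤ Fintype.card ι)
    (e : ι ≃ Fin k × Fin d) (P : GL ι F) {X : Subgroup (GL ι F)}
    (himg : ∀ g ∈ X, ∀ (y : Fin k → F) (z : Fin d → F),
      ∃ y' z', mat g *ᵥ coords e P (AschbacherForms.pure y z) = coords e P (AschbacherForms.pure y' z')) :
    ¬ omegaGL Q ≤ X := by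
  intro hle
  have hf := isReflexive_polar hQ
  let T : Set (ι → F) := {x | ∃ y z, x = coords e P (AschbacherForms.pure y z)}
  let a : Fin k → F := Pi.single ⟨0, by omega⟩ 1
  have ha0 : a ≠ 0 := fun h => by simpa [a] using congrFun h ⟨0, by omega⟩
  let L : (Fin d → F) →ₗ[F] (ι → F) :=
    { toFun := fun z => coords e P (AschbacherForms.pure a z)
      map_add' := fun z z' => by
        rw [show AschbacherForms.pure a (z + z') = AschbacherForms.pure a z + AschbacherForms.pure a z' from
          funext fun j => mul_add _ _ _, map_add]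
      map_smul' := fun c z => by
        rw [show AschbacherForms.pure a (c • z) = c • AschbacherForms.pure a z from
          funext fun j => mul_left_comm _ _ _, map_smul, RingHom.id_apply] }
  have hLinj : Function.Injective L := by
    rw [injective_iff_map_eq_zero]
    intro z hz
    have h1 : AschbacherForms.pure a z = 0 := (coords e P).map_eq_zero_iff.1 hz
    funext j
    simpa [AschbacherForms.pure, a] using congrFun h1 (⟨0, by omega⟩, j)
  obtain ⟨_, ⟨b, rfl⟩, hp0, hqp⟩ := exists_singular hQ (LinearMap.range L)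
    (by rw [LinearMap.finrank_range_of_inj hLinj, Module.finrank_fin_fun]; exact hd)
  have hb0 : b ≠ 0 := fun h => hp0 (by rw [h, map_zero])
  have hT : ∀ z : ι → F, z ≠ 0 → Q z = 0 → z ∈ T := fun z hz0 hqz =>
    singular_mem_of_invariant hQ hn (T := T) (fun u w hp x hx => by
      obtain ⟨y, z, rfl⟩ := hx
      exact himg _ (hle (root_mem hQ hn hp)) y z) (s := L b) ⟨a, b, rfl⟩ hp0 hqp hz0 hqz
  let L' : (Fin k → F) →ₗ[F] (ι → F) :=
    { toFun := fun y => coords e P (AschbacherForms.pure y b)
      map_add' := fun y y' => by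
        rw [show AschbacherForms.pure (y + y') b = AschbacherForms.pure y b + AschbacherForms.pure y' b from
          funext fun j => add_mul _ _ _, map_add]
      map_smul' := fun c y => by
        rw [show AschbacherForms.pure (c • y) b = c • AschbacherForms.pure y b from
          funext fun j => mul_assoc _ _ _, map_smul, RingHom.id_apply] }
  obtain ⟨z, hz, hzM, hqz⟩ := exists_singular_not_mem hQ (K := hf.perp (Submodule.span F {L b}))
    (M := LinearMap.range L ⊔ LinearMap.range L') (by
      have h1 := hf.finrank_perp (Submodule.span F {L b})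
      rw [finrank_span_singleton hp0] at h1
      have h2 := Submodule.finrank_add_le_finrank_add_finrank (LinearMap.range L) (LinearMap.range L')
      have h3 := LinearMap.finrank_range_le L
      have h4 := LinearMap.finrank_range_le L'
      have h5 := Submodule.finrank_sup_add_finrank_inf_eq (LinearMap.range L) (LinearMap.range L')
      have h6 := Submodule.finrank_mono (R := F)
        ((Submodule.span_singleton_le_iff_mem _ _).2 (show L b ∈ LinearMap.range L ⊓ LinearMap.range L' from
          ⟨⟨b, rfl⟩, ⟨a, rfl⟩⟩))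
      rw [finrank_span_singleton hp0] at h6
      rw [Module.finrank_fin_fun] at h3 h4
      omega)
  have hz0 : z ≠ 0 := fun h => hzM (h ▸ Submodule.zero_mem _)
  obtain ⟨a', b', rfl⟩ := hT z hz0 hqz
  have hsum0 : L b + coords e P (AschbacherForms.pure a' b') ≠ 0 := fun h => hzM (by
    rw [eq_neg_of_add_eq_zero_right h]
    exact Submodule.neg_mem _ (Submodule.mem_sup_left ⟨b, rfl⟩))
  obtain ⟨a'', b'', hab⟩ := hT _ hsum0 (by
    rw [MaxSub.quad_add (Q := Q), hqp, hqz, MaxSub.polar_symm, hz _ (Submodule.mem_span_singleton_self _),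
      add_zero, add_zero])
  have hb' : ∀ c : F, c • b ≠ b' := fun c hc => hzM (Submodule.mem_sup_right ⟨c • a', by
    show coords e P (AschbacherForms.pure (c • a') b) = _
    rw [← hc]
    congr 1
    funext j
    simp [AschbacherForms.pure, mul_left_comm, mul_assoc]⟩)
  obtain ⟨x, y, hx, hy⟩ := pure_eq_pure_of_add hb' hb0 ((coords e P).injective (by rw [map_add]; exact hab))
  have hx0 : x ≠ 0 := fun h => ha0 (by rw [hx, h, zero_smul])
  refine hzM (Submodule.mem_sup_left ⟨(y / x) • b', ?_⟩)
  show coords e P (AschbacherForms.pure a _) = _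
  congr 1
  funext j
  simp only [AschbacherForms.pure, hx, hy, Pi.smul_apply, smul_eq_mul]
  field_simp

/-- `Ω` lies in no stabiliser of a tensor square. -/
theorem not_le_wreath_square (hQ : IsNondegenerateQuadraticForm Q) (hn : 7 ≤ Fintype.card ι)
    {d : ℕ} (hd : 3 ≤ d) (hdn : d + d + 3 ≤ Fintype.card ι) (e : ι ≃ (Fin 2 → Fin d)) (P : GL ι F) :
    ¬ omegaGL Q ≤ tensorWreathSubgroup d 2 e P := by
  have hco : ∀ y z : Fin d → F, coords (e.trans (finTwoArrowEquiv _)) P (AschbacherForms.pure y z) =
      TensorNonmax.ptmul e P ![y, z] := fun y z => by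
    rw [TensorNonmax.ptmul, TensorNonmax.cvec_apply, coords_apply]
    congr 1
    funext i
    simp [AschbacherForms.pure, Fin.prod_univ_two, finTwoArrowEquiv]
  refine not_le_of_maps_pure hQ hn (k := d) (by omega) hd hdn (e.trans (finTwoArrowEquiv _)) P fun g hg y z => ?_
  obtain ⟨π, as, has⟩ := TensorNonmax.mem_tensorWreathSubgroup e P hg
  have key : ∀ xs : Fin 2 → Fin d → F, TensorNonmax.ptmul e P xs =
      coords (e.trans (finTwoArrowEquiv _)) P (AschbacherForms.pure (xs 0) (xs 1)) := fun xs => by
    rw [hco]
    congr 1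
    funext i
    fin_cases i <;> rfl
  exact ⟨_, _, ((congrArg (fun v => mat g *ᵥ v) (hco y z)).trans (has _)).trans (key _)⟩

end CfsgLib.AschbacherOrth
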