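import Cfsg.Agent.AschbacherOrth.Descent

/-!
The list of maximal subgroups of `Ω` in odd prime dimension at least seven, up to the residual class.
-/

set_option autoImplicit false

namespace CfsgLib.AschbacherOrth

open Matrix CfsgLib.Aschbacher CfsgLib.StdForms

variable {F : Type*} [Field F] [Fintype F]

theorem exists_reindex {m : ℕ} {D : Fin (Fintype.card (Idx m)) → Submodule F (Idx m → F)}
    (hD : Cfsg.Geo.IsOrthogonalMDecomposition (⇑(oddQ m F)) 1 D) :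
    ∃ D' : Fin (2 * m + 1) → Submodule F (Idx m → F),
      Cfsg.Geo.IsOrthogonalMDecomposition (⇑(oddQ m F)) 1 D' ∧
      Cfsg.Geo.decompositionStabilizer D ≤ Cfsg.Geo.decompositionStabilizer D' := by
  let e : Fin (2 * m + 1) ≃ Fin (Fintype.card (Idx m)) := finCongr card_idx.symm
  refine ⟨fun i => D (e i), ⟨⟨⟨?_, one_pos, fun i => hD.decomp.decomp.finrank_eq _,
    hD.decomp.decomp.indep.comp e.injective,
    (e.surjective.iSup_comp D).trans hD.decomp.decomp.iSup_eq_top⟩,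
    fun i => hD.decomp.nondegenerate _,
    fun i j hij => hD.decomp.orthogonal _ _ (e.injective.ne hij)⟩, fun i j => hD.isometric _ _⟩, ?_⟩
  · have := hD.decomp.decomp.two_le
    rwa [card_idx] at this
  · rintro g ⟨σ, hσ⟩
    exact ⟨e.trans (σ.trans e.symm), fun i => by simpa using hσ (e i)⟩

/-- Maximal subgroups of `Ω` in odd prime dimension. -/
theorem omega_prime_cases {m : ℕ} (hm : 3 ≤ m) (hp : (2 * m + 1).Prime)
    (hodd : Odd (Fintype.card F)) {H : Subgroup (GL (Idx m) F)}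
    (hH : Cfsg.Geo.IsMaximalIn (Cfsg.Geo.omegaGL (Cfsg.quadFormOdd m F)) H) :
    (∃ W : Submodule F (Idx m → F), W ≠ ⊥ ∧ Cfsg.Geo.IsTotallySingularQuad (Cfsg.quadFormOdd m F) W ∧
      H = Cfsg.Geo.subspaceStabilizer W ⊓ Cfsg.Geo.omegaGL (Cfsg.quadFormOdd m F)) ∨
    (∃ W : Submodule F (Idx m → F), W ≠ ⊥ ∧ Even (Module.finrank F W) ∧
      Cfsg.Geo.IsNondegenerateOn (QuadraticMap.polar (Cfsg.quadFormOdd m F)) W ∧
      ¬ (Fintype.card F = 3 ∧ Module.finrank F W = 2 ∧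
        Cfsg.Geo.IsPlusTypeOn (Cfsg.quadFormOdd m F) W) ∧
      H = Cfsg.Geo.subspaceStabilizer W ⊓ Cfsg.Geo.omegaGL (Cfsg.quadFormOdd m F)) ∨
    ((Fintype.card F).Prime ∧ ∃ D : Fin (2 * m + 1) → Submodule F (Idx m → F),
      Cfsg.Geo.IsOrthogonalMDecomposition (Cfsg.quadFormOdd m F) 1 D ∧
      H = Cfsg.Geo.decompositionStabilizer D ⊓ Cfsg.Geo.omegaGL (Cfsg.quadFormOdd m F)) ∨
    (∃ (F₀ : Subfield F) (r : ℕ) (P : GL (Idx m) F), r.Prime ∧ Fintype.card F = Nat.card F₀ ^ r ∧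
      Cfsg.Geo.IsQuadFormRationalStructure (Cfsg.quadFormOdd m F) F₀ P ∧
      H = Cfsg.Geo.subfieldSubgroup F₀ P ⊓ Cfsg.Geo.omegaGL (Cfsg.quadFormOdd m F)) ∨
    Cfsg.Geo.InOrthogonalResidualClass H := by
  rw [← coe_oddQ] at hH ⊢
  have h2 := two_ne_zero_of_odd hodd
  have hsub : ∀ {F₀ : Subfield F} {r : ℕ} (P : GL (Idx m) F), r.Prime →
      Fintype.card F = Nat.card F₀ ^ r →
      ¬ Cfsg.Geo.omegaGL (⇑(oddQ m F)) ≤ Cfsg.Geo.subfieldSubgroup F₀ P := by
    intro F₀ r P hr hcard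
    refine omega_not_le_subfieldSubgroup h2 hm (fun htop => ?_) P
    subst htop
    have h1 : Nat.card (⊤ : Subfield F) = Fintype.card F := by
      rw [Nat.card_congr (Subfield.topEquiv (K := F)).toEquiv, Nat.card_eq_fintype_card]
    rw [h1] at hcard
    have h3 := Nat.pow_lt_pow_right (Fintype.one_lt_card (α := F)) hr.one_lt
    rw [pow_one] at h3
    omega
  by_cases hirr : Cfsg.Geo.ActsIrreducibly (Cfsg.Geo.matrixSet H)
  swap
  · rcases reducible_cases h2 hm hH hirr with h | h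
    · exact Or.inl h
    · exact Or.inr (Or.inl h)
  right; right
  rcases isometry_prime h2 (by omega) hp hH.1.le hirr with ⟨N, hNH, χ, hχ, hD, hst⟩ | ⟨P, hP⟩
  · have hDo := orthogonal_monomial h2 hH.1.le hNH hirr hχ hD hst
    by_cases hq : (Fintype.card F).Prime
    · obtain ⟨D', hD', hle⟩ := exists_reindex hDo
      exact Or.inl ⟨hq, D', hD', eq_inf_of_maximal hH (hst.trans hle)
        (omega_not_le_decompositionStabilizer h2 hm (by omega) hD')⟩
    · obtain ⟨F₁, r, B, hr, hcard, hB, hle⟩ := monomial_subfield h2 hq hDo hH.1.le hst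
      exact Or.inr (Or.inl ⟨F₁, r, B, hr, hcard, hB, eq_inf_of_maximal hH hle (hsub B hr hcard)⟩)
  · have hPO := hP.le.trans hH.1.le
    by_cases hF : ∃ F₀ : Subfield F, F₀ ≠ ⊤ ∧ Cfsg.Geo.RealisableOver F₀ (Cfsg.Geo.matrixSet P)
    · obtain ⟨F₀, h0, hreal⟩ := hF
      obtain ⟨F₁, r, B, hr, hcard, hB, hle⟩ :=
        exists_quad_subfield h2 h0 hP.normal hPO hP.absIrred hreal
      exact Or.inr (Or.inl ⟨F₁, r, B, hr, hcard, hB, eq_inf_of_maximal hH hle (hsub B hr hcard)⟩)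
    · refine Or.inr (Or.inr ⟨P, hP.toResidualCore fun F₀ h0 hr => hF ⟨F₀, h0, hr⟩, ?_⟩)
      rintro ⟨σ, f, hf, hfix⟩
      exact hF (realisable_of_unitary h2 hPO hP.absIrred hf hfix)

end CfsgLib.AschbacherOrth
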