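import Cfsg.Agent.MaxSub.OrthOddStructure
import Cfsg.Agent.AschbacherOrth.Prime
import Cfsg.Agent.AschbacherOrth.NotLeWreath
import Cfsg.Agent.AschbacherQuad.Planes

/-!
The list of maximal subgroups of `Ω` in dimension nine, up to the residual class.
-/

set_option autoImplicit false
set_option linter.unusedSectionVars false
set_option linter.style.haveILetI false
set_option maxHeartbeats 1000000

namespace CfsgLib.AschbacherOrth

attribute [-simp] RingEquiv.coe_refl

open Matrix Cfsg.Geo CfsgLib.TensorNonmax CfsgLib.Aschbacher CfsgLib.AschbacherForms CfsgLib.MaxSub CfsgLib.StdForms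
open scoped Kronecker commutatorElement

variable {F : Type*} [Field F] [Fintype F]

local notation "QN" => (Cfsg.quadFormOdd 4 F)

/-- Maximal subgroups of `Ω` in dimension nine. -/
theorem omega_nine_cases (hodd : Odd (Fintype.card F)) {H : Subgroup (GL (Idx 4) F)}
    (hH : IsMaximalIn (omegaGL QN) H) :
    (∃ W : Submodule F (Idx 4 → F), W ≠ ⊥ ∧ IsTotallySingularQuad QN W ∧
      H = subspaceStabilizer W ⊓ omegaGL QN) ∨
    (∃ W : Submodule F (Idx 4 → F), W ≠ ⊥ ∧ Even (Module.finrank F W) ∧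
      IsNondegenerateOn (QuadraticMap.polar QN) W ∧
      ¬ (Fintype.card F = 3 ∧ Module.finrank F W = 2 ∧ IsPlusTypeOn QN W) ∧
      H = subspaceStabilizer W ⊓ omegaGL QN) ∨
    ((Fintype.card F).Prime ∧ ∃ D : Fin 9 → Submodule F (Idx 4 → F),
      IsOrthogonalMDecomposition QN 1 D ∧ H = decompositionStabilizer D ⊓ omegaGL QN) ∨
    (5 ≤ Fintype.card F ∧ ∃ D : Fin 3 → Submodule F (Idx 4 → F),
      IsOrthogonalMDecomposition QN 3 D ∧ H = decompositionStabilizer D ⊓ omegaGL QN) ∨
    (∃ K : Subalgebra F (Matrix (Idx 4) (Idx 4) F), IsFieldSubalgebra 3 K ∧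
      IsSelfAdjointFor (QuadraticMap.polar QN) K ∧ H = subalgebraNormalizer K ⊓ omegaGL QN) ∨
    (∃ (F₀ : Subfield F) (r : ℕ) (P : GL (Idx 4) F), r.Prime ∧ Fintype.card F = Nat.card F₀ ^ r ∧
      IsQuadFormRationalStructure QN F₀ P ∧ H = subfieldSubgroup F₀ P ⊓ omegaGL QN) ∨
    (5 ≤ Fintype.card F ∧ ∃ (e : Idx 4 ≃ (Fin 2 → Fin 3)) (P : GL (Idx 4) F)
      (f₁ : (Fin 3 → F) → (Fin 3 → F) → F), IsSymmetricForm f₁ ∧
      IsTensorPowerFormStructure id (QuadraticMap.polar QN) f₁ e P ∧
      H = tensorWreathSubgroup 3 2 e P ⊓ omegaGL QN) ∨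
    InOrthogonalResidualClass H := by
  classical
  rw [← coe_oddQ] at hH ⊢
  set Q : (Idx 4 → F) → F := ⇑(oddQ 4 F) with hQdef
  have h2 := two_ne_zero_of_odd hodd
  have hcard : Fintype.card (Idx 4) = 9 := by rw [card_idx]
  have hn7 : 7 ≤ Fintype.card (Idx 4) := by omega
  have hnodd : Odd (Fintype.card (Idx 4)) := ⟨4, by omega⟩
  have hf : IsReflexive (RingEquiv.refl F) 1 (QuadraticMap.polar Q) :=
    ⟨isSesq_polar, fun _ => rfl, fun u v => by
      rw [QuadraticMap.polar_comm, RingEquiv.refl_apply, one_mul], pol_nondegenerate h2⟩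
  have hQn : IsNondegenerateQuadraticForm Q := ⟨fun c v => by
      rw [hQdef, QuadraticMap.map_smul, smul_eq_mul, sq],
    ⟨isSesq_polar.add_left, isSesq_polar.smul_left, isSesq_polar.add_right, fun c u v => by
      rw [isSesq_polar.smul_right]; rfl⟩, pol_nondegenerate h2⟩
  have hHO : H ≤ omegaGL Q := hH.1.le
  have hfix : FixesForm (matrixSet H) (QuadraticMap.polar Q) :=
    fixesForm_iff.2 fun h hh => omega_polar (hHO hh)
  have hqfix : FixesQuadForm (matrixSet H) Q := forall_matrixSet.2 fun g hg v => omega_isometry (hHO hg) v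
  have h35 : Fintype.card F = 3 ∨ 5 ≤ Fintype.card F := by
    have := Fintype.one_lt_card (α := F)
    obtain ⟨a, ha⟩ := hodd
    omega
  by_cases hirr : ActsIrreducibly (matrixSet H)
  swap
  · rcases reducible_cases h2 (by norm_num) hH hirr with h | h
    · exact Or.inl h
    · exact Or.inr (Or.inl h)
  right; right
  have heq : ∀ {X : Subgroup (GL (Idx 4) F)}, H ≤ X → ¬ omegaGL Q ≤ X → H = X ⊓ omegaGL Q :=
    fun hle hne => eq_inf_of_maximal hH hle hne
  have hsub : ∀ {F₀ : Subfield F} {r : ℕ} {P : GL (Idx 4) F}, r.Prime →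
      Fintype.card F = Nat.card F₀ ^ r → IsQuadFormRationalStructure Q F₀ P → H ≤ subfieldSubgroup F₀ P →
      ∃ (F₀ : Subfield F) (r : ℕ) (P : GL (Idx 4) F), r.Prime ∧ Fintype.card F = Nat.card F₀ ^ r ∧
        IsQuadFormRationalStructure Q F₀ P ∧ H = subfieldSubgroup F₀ P ⊓ omegaGL Q := by
    intro F₀ r P hr hc hP hle
    refine ⟨F₀, r, P, hr, hc, hP, heq hle (omega_not_le_subfieldSubgroup h2 (by norm_num) (fun htop => ?_) P)⟩
    subst htop
    have h1 : Nat.card (⊤ : Subfield F) = Fintype.card F := by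
      rw [Nat.card_congr (Subfield.topEquiv (K := F)).toEquiv, Nat.card_eq_fintype_card]
    rw [h1] at hc
    have h3 := Nat.pow_lt_pow_right (Fintype.one_lt_card (α := F)) hr.one_lt
    rw [pow_one] at h3
    omega
  have hlines : ∀ {D : Fin (Fintype.card (Idx 4)) → Submodule F (Idx 4 → F)},
      IsOrthogonalMDecomposition Q 1 D → H ≤ decompositionStabilizer D →
      ((Fintype.card F).Prime ∧ ∃ D : Fin 9 → Submodule F (Idx 4 → F),
        IsOrthogonalMDecomposition Q 1 D ∧ H = decompositionStabilizer D ⊓ omegaGL Q) ∨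
      ∃ (F₀ : Subfield F) (r : ℕ) (P : GL (Idx 4) F), r.Prime ∧ Fintype.card F = Nat.card F₀ ^ r ∧
        IsQuadFormRationalStructure Q F₀ P ∧ H = subfieldSubgroup F₀ P ⊓ omegaGL Q := by
    intro D hD hle
    by_cases hp : (Fintype.card F).Prime
    · obtain ⟨D', hD', hle'⟩ := exists_reindex hD
      exact Or.inl ⟨hp, D', hD', heq (hle.trans hle')
        (omega_not_le_decompositionStabilizer h2 (by norm_num) (by norm_num) hD')⟩
    · obtain ⟨F₁, r, P, hr, hc, hP, hle'⟩ := monomial_subfield h2 hp hD hHO hle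
      exact Or.inr (hsub hr hc hP hle')
  -- orthogonal decompositions
  have horth : ∀ {t k : ℕ} {D : Fin t → Submodule F (Idx 4 → F)},
      IsNondegenerateMDecomposition (QuadraticMap.polar Q) k D → t * k = Fintype.card (Idx 4) →
      H ≤ decompositionStabilizer D →
      ((Fintype.card F).Prime ∧ ∃ D : Fin 9 → Submodule F (Idx 4 → F),
        IsOrthogonalMDecomposition Q 1 D ∧ H = decompositionStabilizer D ⊓ omegaGL Q) ∨
      (5 ≤ Fintype.card F ∧ ∃ D : Fin 3 → Submodule F (Idx 4 → F),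
        IsOrthogonalMDecomposition Q 3 D ∧ H = decompositionStabilizer D ⊓ omegaGL Q) ∨
      ∃ (F₀ : Subfield F) (r : ℕ) (P : GL (Idx 4) F), r.Prime ∧ Fintype.card F = Nat.card F₀ ^ r ∧
        IsQuadFormRationalStructure Q F₀ P ∧ H = subfieldSubgroup F₀ P ⊓ omegaGL Q := by
    intro t k D hD htk hle
    have hiso : IsOrthogonalMDecomposition Q k D := ⟨hD, fun i j => by
      obtain ⟨g, hg, hgj⟩ := exists_move_member hirr hD.decomp hle i j
      refine ⟨((D i).equivMapOfInjective (Matrix.toLin' (mat g)) (map_toLin'_injective g)).trans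
        (LinearEquiv.ofEq _ _ hgj), fun w => ?_⟩
      simp only [LinearEquiv.trans_apply, LinearEquiv.coe_ofEq_apply,
        Submodule.coe_equivMapOfInjective_apply, Matrix.toLin'_apply]
      exact omega_isometry (hHO hg) _⟩
    have ht2 := hD.decomp.two_le
    have hk0 := hD.decomp.pos
    rw [hcard] at htk
    obtain ⟨rfl, rfl⟩ | ⟨rfl, rfl⟩ : (k = 1 ∧ t = 9) ∨ (k = 3 ∧ t = 3) := by
      have hkl : k ≤ 4 := by nlinarith
      interval_cases k <;> omega
    · rcases hlines (D := fun i => D (finCongr hcard i)) (by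
        refine ⟨⟨⟨by omega, one_pos, fun i => hD.decomp.finrank_eq _,
          hD.decomp.indep.comp (finCongr hcard).injective,
          ((finCongr hcard).surjective.iSup_comp D).trans hD.decomp.iSup_eq_top⟩,
          fun i => hD.nondegenerate _, fun i j hij => hD.orthogonal _ _ ((finCongr hcard).injective.ne hij)⟩,
          fun i j => hiso.isometric _ _⟩) (by
        refine hle.trans ?_
        rintro g ⟨σ, hσ⟩
        exact ⟨(finCongr hcard).trans (σ.trans (finCongr hcard).symm), fun i => by simpa using hσ (finCongr hcard i)⟩) with h | h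
      · exact Or.inl h
      · exact Or.inr (Or.inr h)
    · rcases h35 with hq | hq
      · obtain ⟨a, v, ha, hv, hva, hvo⟩ :=
          AschbacherQuad.exists_frame_three_space hQn hq (hD.nondegenerate 0) (hD.decomp.finrank_eq 0)
        obtain ⟨D', hD', hle'⟩ := AschbacherQuad.frame_refine hQn h2 hqfix hD hiso.isometric hle 0 ha v hv hva hvo
          fun w hw hqw => AschbacherQuad.frame_all_card_three hQn hq le_rfl (hD.decomp.finrank_eq 0) ha hv hva hvo hw hqw
        exact Or.inl ⟨by rw [hq]; norm_num, D', hD', heq hle'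
          (omega_not_le_decompositionStabilizer h2 (by norm_num) (by norm_num) hD')⟩
      · exact Or.inr (Or.inl ⟨hq, D, hiso, heq hle
          (AschbacherQuad.not_le_decompositionStabilizer hQn hn7 hD.decomp (Or.inr h2))⟩)
  rcases star_reduction_spanned (by omega) hf hfix hirr with
    ⟨t, k, D, hD, htk, hle⟩ | ⟨k, D, -, hk, -⟩ | ⟨r, K, hr, hrd, hK, hle, hadj⟩ |
    ⟨k, d, e, P, S, T, hk, hd, hkd, hS, hT, hle, hform⟩ | hab | hsp | ⟨P, hP⟩
  · rcases horth hD htk hle with h | h | h
    · exact Or.inl h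
    · exact Or.inr (Or.inl h)
    · exact Or.inr (Or.inr (Or.inr (Or.inl h)))
  · exfalso; omega
  · rw [hcard] at hrd
    obtain rfl : r = 3 := (Nat.prime_dvd_prime_iff_eq hr Nat.prime_three).1 (hr.dvd_of_dvd_pow (n := 2) (by norm_num; exact hrd))
    have hself : IsSelfAdjointFor (QuadraticMap.polar Q) K := fun k hk u v => by
      rw [hf.adj_spec, adj_eq_self_of_odd hf (by decide) hK hadj hk]
    exact Or.inr (Or.inr (Or.inl ⟨K, hK, hself,
      heq hle (AschbacherQuad.not_le_subalgebraNormalizer hQn hn7 (by norm_num) hK)⟩))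
  · -- tensor decompositions
    haveI : Nonempty (Fin k) := ⟨⟨0, by omega⟩⟩
    haveI : Nonempty (Fin d) := ⟨⟨0, by omega⟩⟩
    rw [hcard] at hkd
    obtain ⟨rfl, rfl⟩ : k = 3 ∧ d = 3 := by
      have hkl : k ≤ 4 := by nlinarith
      interval_cases k <;> omega
    obtain ⟨a, b, -, hSa, hTb, -⟩ := factors_reflexive hf hS.ne_zero hT.ne_zero hform
    have hmap : ∀ {n : ℕ} (M : Matrix (Fin n) (Fin n) F), M.map (RingEquiv.refl F) = M :=
      fun M => Matrix.ext fun _ _ => rfl
    rw [hmap] at hSa hTb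
    have hSs := symm_of_odd (by decide) hS hSa
    have hTs := symm_of_odd (by decide) hT hTb
    rcases h35 with hq | hq
    · obtain ⟨D, hD, hle'⟩ := frame_decomposition hq hf hfix hirr (by omega) hS hT hTs hle hform
      rcases horth hD (by rw [hcard]) hle' with h | h | h
      · exact Or.inl h
      · exact Or.inr (Or.inl h)
      · exact Or.inr (Or.inr (Or.inr (Or.inl h)))
    obtain ⟨A, μ, hμ, hA⟩ := exists_similar_of_odd h2 (by decide) hS hT hSs hTs
    obtain ⟨e', P', hstr, hle'⟩ := exists_square hf hμ (A := A) (by rw [hmap]; exact hA) hle hform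
    exact Or.inr (Or.inr (Or.inr (Or.inr (Or.inl ⟨hq, e', P', _, isSymmetricForm_formOf hS hSs, hstr,
      heq hle' (not_le_wreath_square hQn hn7 le_rfl (by omega) e' P')⟩))))
  · exact (no_abelianSocle hf (by omega) hnodd hfix hab).elim
  · -- tensor powers
    obtain ⟨d, t, e, P, B, hd, ht, hn, hB⟩ := exists_slotPower hf hfix hsp
    rw [hcard] at hn
    obtain ⟨rfl, rfl⟩ : d = 3 ∧ t = 2 := by
      have hdd : d ^ 2 ≤ 9 := hn ▸ Nat.pow_le_pow_right (by omega) ht
      have hd3 : d ≤ 3 := by nlinarith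
      have hd' : d = 3 := by
        interval_cases d
        · exfalso
          have := dvd_pow_self 2 (show t ≠ 0 by omega)
          rw [← hn] at this
          norm_num at this
        · rfl
      subst hd'
      exact ⟨rfl, Nat.pow_right_injective (by norm_num) (show 3 ^ t = 3 ^ 2 by rw [← hn])⟩
    obtain ⟨a, -, ha⟩ := hB.refl
    have hG : (gramMatrix B)ᵀ = gramMatrix B := by
      refine symm_of_odd (by decide) (gram_isUnit hB.sesq hB.nondegenerate) (a := a)
        (Matrix.ext fun i j => ?_)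
      exact ha _ _
    have hbil : IsBilinearForm B :=
      ⟨hB.sesq.add_left, hB.sesq.smul_left, hB.sesq.add_right, hB.sesq.smul_right⟩
    have hBs : IsSymmetricForm B := ⟨hbil, fun u v => by
      rw [hB.sesq.gram_eq u v, hB.sesq.gram_eq v u]
      show u ⬝ᵥ (gramMatrix B *ᵥ v) = v ⬝ᵥ (gramMatrix B *ᵥ u)
      rw [Matrix.dotProduct_mulVec, ← Matrix.mulVec_transpose, hG, dotProduct_comm], hB.nondegenerate⟩
    rcases h35 with hq | hq
    · obtain ⟨G, hG, hG0, hiso⟩ := hB.perfect
      exact (hG0 (perfect_isometry_three hq hBs hG hiso)).elim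
    have hstr := hB.structure' hf
    exact Or.inr (Or.inr (Or.inr (Or.inr (Or.inl ⟨hq, e, P, B, hBs, hstr,
      heq hB.le_wreath (not_le_wreath_square hQn hn7 le_rfl (by omega) e P)⟩))))
  · -- almost simple groups
    have hPO := hP.le.trans hHO
    by_cases hF : ∃ F₀ : Subfield F, F₀ ≠ ⊤ ∧ RealisableOver F₀ (matrixSet P)
    · obtain ⟨F₀, h0, hreal⟩ := hF
      obtain ⟨F₁, r, B, hr, hc, hB, hle⟩ :=
        exists_quad_subfield h2 h0 hP.normal hPO hP.absIrred hreal
      exact Or.inr (Or.inr (Or.inr (Or.inl (hsub hr hc hB hle))))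
    · refine Or.inr (Or.inr (Or.inr (Or.inr (Or.inr ⟨P, hP.toResidualCore fun F₀ h0 hr => hF ⟨F₀, h0, hr⟩, ?_⟩))))
      rintro ⟨σ, f, hfu, hfixu⟩
      exact hF (realisable_of_unitary h2 hPO hP.absIrred hfu hfixu)

end CfsgLib.AschbacherOrth
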