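import Cfsg.Agent.Aschbacher.LinearPrime
import Cfsg.Agent.Spinor.Omega
import Cfsg.Agent.Spinor.StdForms

/-!
`Ω` of the standard odd-dimensional quadratic form lies in no reducible, monomial or subfield group: all proofs use
products of two reflections in vectors of equal value.
-/

set_option autoImplicit false

namespace CfsgLib.AschbacherOrth

open Matrix CfsgLib.Aschbacher CfsgLib.StdForms

/-- The coordinates of the odd-dimensional orthogonal space. -/
abbrev Idx (m : ℕ) : Type := Unit ⊕ (Fin m ⊕ Fin m)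

variable {m : ℕ} {F : Type*} [Field F]

set_option quotPrecheck false
local notation "V" => (Idx m → F)
local notation "QQ" => (⇑(oddQ m F))
local notation "pol" => QuadraticMap.polar (⇑(oddQ m F))
local notation "OO" => Cfsg.Geo.omegaGL (ι := Idx m) (F := F) (⇑(oddQ m F))

theorem two_ne_zero_of_odd [Fintype F] (hodd : Odd (Fintype.card F)) : (2 : F) ≠ 0 := by
  intro h
  have h1 : ringChar F = 2 := by
    haveI : CharP F 2 := CharTwo.of_one_ne_zero_of_two_eq_zero one_ne_zero h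
    exact ringChar.eq F 2
  have h3 := FiniteField.even_card_iff_char_two.1 h1
  rw [Nat.odd_iff] at hodd
  omega

theorem omega_isometry {g : GL (Idx m) F} (hg : g ∈ OO) (v : V) : QQ (mat g *ᵥ v) = QQ v := by
  obtain ⟨k, -, rfl⟩ := hg
  exact CfsgLib.Spinor.quad_mulVec _ k v

theorem omega_polar {g : GL (Idx m) F} (hg : g ∈ OO) (u v : V) :
    pol (mat g *ᵥ u) (mat g *ᵥ v) = pol u v := by
  simp only [QuadraticMap.polar, ← Matrix.mulVec_add, omega_isometry hg]

theorem omega_le_specialLinear : OO ≤ Cfsg.Geo.specialLinear (Idx m) F := by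
  rintro _ ⟨k, hk, rfl⟩
  exact Abelianization.commutator_subset_ker
    ((Matrix.GeneralLinearGroup.det : GL (Idx m) F →* Fˣ).comp
      (Cfsg.isometryGroup F QQ).subtype) hk

theorem exists_reflPair [Fintype F] (h2 : (2 : F) ≠ 0) {u w : V} (hu : QQ u ≠ 0)
    (hwu : QQ w = QQ u) :
    ∃ g ∈ OO, mat g = Cfsg.reflectionMatrix QQ u * Cfsg.reflectionMatrix QQ w := by
  have hw : QQ w ≠ 0 := hwu ▸ hu
  refine ⟨_, ⟨CfsgLib.Spinor.reflIso (oddQ m F) u hu * CfsgLib.Spinor.reflIso (oddQ m F) w hw, ?_, rfl⟩, rfl⟩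
  exact CfsgLib.Spinor.mem_omega_of_isReflProd h2
    ((CfsgLib.Spinor.IsReflProd.reflIso u hu).mul (CfsgLib.Spinor.IsReflProd.reflIso w hw))
    (by simp) ⟨QQ u, by simp [hwu]⟩

theorem refl_mulVec (u x : V) :
    Cfsg.reflectionMatrix QQ u *ᵥ x = x - ((QQ u)⁻¹ * pol u x) • u := by
  rw [CfsgLib.Spinor.reflectionMatrix_mulVec, CfsgLib.Spinor.refl_apply]

/-- Every functional is the pairing with a vector. -/
theorem exists_pairing (h2 : (2 : F) ≠ 0) (φ : Module.Dual F V) : ∃ s : V, ∀ v, pol s v = φ v :=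
  ⟨(LinearMap.BilinForm.toDual _ (oddQ_nondegenerate h2 m)).symm φ, fun v =>
    LinearMap.BilinForm.apply_toDual_symm_apply (B := QuadraticMap.polarBilin (oddQ m F))
      (hB := oddQ_nondegenerate h2 m) φ v⟩

theorem exists_pol_eq_one (h2 : (2 : F) ≠ 0) {x : V} (hx : x ≠ 0) : ∃ s : V, pol x s = 1 := by
  obtain ⟨i, hi⟩ := Function.ne_iff.1 hx
  obtain ⟨s, hs⟩ := exists_pairing h2 ((x i)⁻¹ • LinearMap.proj i)
  refine ⟨s, ?_⟩
  rw [QuadraticMap.polar_comm, hs]
  simp only [LinearMap.smul_apply, LinearMap.proj_apply, smul_eq_mul]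
  exact inv_mul_cancel₀ hi

/-- A totally singular subspace of dimension `m`. -/
def singularL : (Fin m → F) →ₗ[F] V where
  toFun a := Sum.elim 0 (Sum.elim a 0)
  map_add' a b := by ext (u | i | i) <;> simp
  map_smul' c a := by ext (u | i | i) <;> simp

theorem quad_singularL (a : Fin m → F) : QQ (singularL a) = 0 := by
  rw [oddQ_apply]
  simp [Cfsg.quadFormOdd, singularL]

theorem exists_singular {k : ℕ} (hk : k < m) (φ : Fin k → Module.Dual F V) :
    ∃ e : V, e ≠ 0 ∧ QQ e = 0 ∧ ∀ j, φ j e = 0 := by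
  have hker := LinearMap.ker_ne_bot_of_finrank_lt (f := LinearMap.pi fun j => (φ j).comp (singularL (m := m) (F := F)))
    (by simpa using hk)
  obtain ⟨a, ha, ha0⟩ := (Submodule.ne_bot_iff _).1 hker
  refine ⟨singularL a, fun h => ha0 (funext fun i => ?_), quad_singularL a, fun j => ?_⟩
  · simpa [singularL] using congrFun h (Sum.inr (Sum.inl i))
  · exact congrFun (LinearMap.mem_ker.1 ha) j

theorem exists_value (h2 : (2 : F) ≠ 0) {k : ℕ} (t : Fin k → V) {e : V} (he0 : QQ e = 0)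
    (he : ∀ j, pol (t j) e = 0) (hnot : e ∉ Submodule.span F (Set.range t)) (a : F) :
    ∃ w : V, (∀ j, pol (t j) w = 0) ∧ QQ w = a := by
  obtain ⟨φ, hφe, hφ⟩ := Submodule.exists_dual_map_eq_bot_of_notMem hnot inferInstance
  obtain ⟨s, hs⟩ := exists_pairing h2 ((φ e)⁻¹ • φ)
  refine ⟨s + (a - QQ s) • e, fun j => ?_, ?_⟩
  · rw [QuadraticMap.polar_add_right, QuadraticMap.polar_smul_right, he, smul_zero, add_zero,
      QuadraticMap.polar_comm, hs]
    have h1 : φ (t j) ∈ (Submodule.span F (Set.range t)).map φ :=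
      Submodule.mem_map_of_mem (Submodule.subset_span ⟨j, rfl⟩)
    rw [hφ, Submodule.mem_bot] at h1
    simp [h1]
  · rw [QuadraticMap.map_add (⇑(oddQ m F)), QuadraticMap.map_smul, he0, QuadraticMap.polar_smul_right, hs]
    simp [hφe]

theorem exists_perp_one (h2 : (2 : F) ≠ 0) (hm : 3 ≤ m) {x : V} (hx : x ≠ 0) (a : F) :
    ∃ w : V, pol x w = 0 ∧ QQ w = a := by
  obtain ⟨i, hi⟩ := Function.ne_iff.1 hx
  obtain ⟨e, he0, heQ, he⟩ := exists_singular (show 2 < m by omega)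
    ![QuadraticMap.polarBilin (oddQ m F) x, LinearMap.proj i]
  obtain ⟨w, hw, hwa⟩ := exists_value h2 ![x] heQ (fun j => by fin_cases j; exact he 0) (fun hmem => by
    rw [Matrix.range_cons, Matrix.range_empty, Set.union_empty] at hmem
    obtain ⟨c, rfl⟩ := Submodule.mem_span_singleton.1 hmem
    have h1 : c * x i = 0 := he 1
    exact he0 (by simp [(mul_eq_zero.1 h1).resolve_right hi])) a
  exact ⟨w, hw 0, hwa⟩

theorem exists_perp_two (h2 : (2 : F) ≠ 0) (hm : 3 ≤ m) {u y : V} (hu : QQ u ≠ 0) (hy : QQ y ≠ 0)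
    (huy : pol u y = 0) (a : F) : ∃ w : V, pol u w = 0 ∧ pol y w = 0 ∧ QQ w = a := by
  obtain ⟨e, he0, heQ, he⟩ := exists_singular (show 2 < m by omega)
    ![QuadraticMap.polarBilin (oddQ m F) u, QuadraticMap.polarBilin (oddQ m F) y]
  obtain ⟨w, hw, hwa⟩ := exists_value h2 ![u, y] heQ
    (fun j => by fin_cases j <;> [exact he 0; exact he 1]) (fun hmem => by
    rw [Matrix.range_cons_cons_empty] at hmem
    obtain ⟨c, d, rfl⟩ := Submodule.mem_span_pair.1 hmem
    have h0 : pol u (c • u + d • y) = 0 := he 0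
    have h1 : pol y (c • u + d • y) = 0 := he 1
    rw [QuadraticMap.polar_add_right, QuadraticMap.polar_smul_right, QuadraticMap.polar_smul_right,
      CfsgLib.Spinor.polar_self', huy] at h0
    rw [QuadraticMap.polar_add_right, QuadraticMap.polar_smul_right, QuadraticMap.polar_smul_right,
      CfsgLib.Spinor.polar_self', QuadraticMap.polar_comm (⇑(oddQ m F)) y u, huy] at h1
    have hc : c = 0 := by simpa [h2, hu] using h0
    have hd : d = 0 := by simpa [h2, hy] using h1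
    exact he0 (by simp [hc, hd])) a
  exact ⟨w, hw 0, hw 1, hwa⟩

/-- The orthogonal of a subspace. -/
noncomputable def perp (W : Submodule F V) : Submodule F V :=
  LinearMap.BilinForm.orthogonal (QuadraticMap.polarBilin (oddQ m F)) W

theorem mem_perp {W : Submodule F V} {x : V} : x ∈ perp W ↔ ∀ w ∈ W, pol w x = 0 :=
  LinearMap.BilinForm.mem_orthogonal_iff

theorem finrank_perp (h2 : (2 : F) ≠ 0) (W : Submodule F V) :
    Module.finrank F (perp W) = 2 * m + 1 - Module.finrank F W := by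
  rw [perp, LinearMap.BilinForm.finrank_orthogonal (oddQ_nondegenerate h2 m)]
  congr 1
  simp
  omega

theorem perp_perp (h2 : (2 : F) ≠ 0) (W : Submodule F V) : perp (perp W) = W :=
  LinearMap.BilinForm.orthogonal_orthogonal (oddQ_nondegenerate h2 m)
    (fun x y h => by
      rw [QuadraticMap.polarBilin_apply_apply] at h ⊢
      rw [QuadraticMap.polar_comm]; exact h) W

theorem stabilizer_perp {g : GL (Idx m) F} (hg : g ∈ OO) {W : Submodule F V}
    (hW : g ∈ Cfsg.Geo.subspaceStabilizer W) : g ∈ Cfsg.Geo.subspaceStabilizer (perp W) := by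
  rw [mem_subspaceStabilizer_iff]
  intro x hx
  rw [mem_perp]
  intro w hw
  have h1 : mat g⁻¹ *ᵥ w ∈ W := mem_subspaceStabilizer_iff.1 (Subgroup.inv_mem _ hW) w hw
  calc pol w (mat g *ᵥ x) = pol (mat g *ᵥ (mat g⁻¹ *ᵥ w)) (mat g *ᵥ x) := by rw [mulVec_inv_mulVec]
    _ = 0 := by rw [omega_polar hg]; exact mem_perp.1 hx _ h1

theorem exists_aniso_pol_ne (h2 : (2 : F) ≠ 0) {x : V} (hx : x ≠ 0) :
    ∃ u : V, QQ u ≠ 0 ∧ pol x u ≠ 0 := by
  obtain ⟨s, hs⟩ := exists_pol_eq_one h2 hx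
  by_cases hxx : QQ x = 0
  · by_cases hss : QQ s = 0
    · refine ⟨x + s, ?_, ?_⟩
      · rw [QuadraticMap.map_add (⇑(oddQ m F)), hxx, hss, hs]; simp
      · rw [QuadraticMap.polar_add_right, CfsgLib.Spinor.polar_self', hxx, hs]; simp
    · exact ⟨s, hss, by rw [hs]; exact one_ne_zero⟩
  · exact ⟨x, hxx, by rw [CfsgLib.Spinor.polar_self']; exact mul_ne_zero h2 hxx⟩

variable [Fintype F]

theorem mem_of_omega_le (h2 : (2 : F) ≠ 0) (hm : 3 ≤ m) {W : Submodule F V}
    (hW : OO ≤ Cfsg.Geo.subspaceStabilizer W) {x u : V} (hxW : x ∈ W) (hx : x ≠ 0) (hu : QQ u ≠ 0)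
    (hxu : pol x u ≠ 0) : u ∈ W := by
  obtain ⟨w, hw, hwu⟩ := exists_perp_one h2 hm hx (QQ u)
  obtain ⟨g, hg, hgm⟩ := exists_reflPair h2 hu hwu
  have h1 := mem_subspaceStabilizer_iff.1 (hW hg) x hxW
  rw [hgm, ← Matrix.mulVec_mulVec, refl_mulVec w, QuadraticMap.polar_comm (⇑(oddQ m F)) w, hw,
    mul_zero, zero_smul, sub_zero, refl_mulVec] at h1
  have h3 : ((QQ u)⁻¹ * pol u x) • u ∈ W := by simpa using W.sub_mem hxW h1
  have hne : (QQ u)⁻¹ * pol u x ≠ 0 :=
    mul_ne_zero (inv_ne_zero hu) (by rw [QuadraticMap.polar_comm]; exact hxu)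
  exact (W.smul_mem_iff hne).1 h3

/-- `Ω` is irreducible. -/
theorem omega_not_le_subspaceStabilizer (h2 : (2 : F) ≠ 0) (hm : 3 ≤ m) {W : Submodule F V}
    (h0 : W ≠ ⊥) (h1 : W ≠ ⊤) : ¬ OO ≤ Cfsg.Geo.subspaceStabilizer W := by
  intro hW
  have hP : OO ≤ Cfsg.Geo.subspaceStabilizer (perp W) := fun g hg => stabilizer_perp hg (hW hg)
  have hlt : Module.finrank F W < 2 * m + 1 := by
    refine lt_of_lt_of_eq (Submodule.finrank_lt h1) ?_
    simp
    omega
  have hP0 : perp W ≠ ⊥ := by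
    intro h
    have := finrank_perp h2 W
    rw [h, finrank_bot] at this
    omega
  obtain ⟨x, hxW, hx⟩ := (Submodule.ne_bot_iff _).1 h0
  obtain ⟨x', hxW', hx'⟩ := (Submodule.ne_bot_iff _).1 hP0
  obtain ⟨u, hu, hxu⟩ := exists_aniso_pol_ne h2 hx
  obtain ⟨y, hy, hxy⟩ := exists_aniso_pol_ne h2 hx'
  have huW := mem_of_omega_le h2 hm hW hxW hx hu hxu
  have hyW := mem_of_omega_le h2 hm hP hxW' hx' hy hxy
  have huy : pol u y = 0 := mem_perp.1 hyW u huW
  classical
  obtain ⟨v, huv, hyv, hv⟩ := exists_perp_two h2 hm hu hy huy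
    (if QQ u + QQ y = 0 then 1 else 0)
  set z := u + y + v with hz
  have hQz : QQ z ≠ 0 := by
    rw [hz, QuadraticMap.map_add (⇑(oddQ m F)), QuadraticMap.map_add (⇑(oddQ m F)), huy,
      QuadraticMap.polar_add_left, huv, hyv, hv]
    split_ifs with h <;> simp [h]
  have hu0 : u ≠ 0 := fun h => hu (by rw [h, QuadraticMap.map_zero])
  have hy0 : y ≠ 0 := fun h => hy (by rw [h, QuadraticMap.map_zero])
  have hzu : pol u z ≠ 0 := by
    rw [hz, QuadraticMap.polar_add_right, QuadraticMap.polar_add_right, CfsgLib.Spinor.polar_self',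
      huy, huv, add_zero, add_zero]
    exact mul_ne_zero h2 hu
  have hzy : pol y z ≠ 0 := by
    rw [hz, QuadraticMap.polar_add_right, QuadraticMap.polar_add_right, CfsgLib.Spinor.polar_self',
      QuadraticMap.polar_comm (⇑(oddQ m F)) y u, huy, hyv, zero_add, add_zero]
    exact mul_ne_zero h2 hy
  have h3 := mem_perp.1 (mem_of_omega_le h2 hm hP hyW hy0 hQz hzy) z
    (mem_of_omega_le h2 hm hW huW hu0 hQz hzu)
  rw [CfsgLib.Spinor.polar_self'] at h3
  exact mul_ne_zero h2 hQz h3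

/-- `Ω` is not monomial in an orthogonal basis of equal values. -/
theorem omega_not_le_decompositionStabilizer (h2 : (2 : F) ≠ 0) (hm : 3 ≤ m) {t : ℕ}
    (ht : 4 ≤ t) {D : Fin t → Submodule F V}
    (hD : Cfsg.Geo.IsOrthogonalMDecomposition QQ 1 D) :
    ¬ OO ≤ Cfsg.Geo.decompositionStabilizer D := by
  intro hle
  let i₀ : Fin t := ⟨0, by omega⟩
  obtain ⟨v₀, hv₀, hv₀0⟩ : ∃ v ∈ D i₀, v ≠ 0 := (Submodule.ne_bot_iff _).1 fun h => by
    have := hD.decomp.decomp.finrank_eq i₀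
    rw [h, finrank_bot] at this
    exact zero_ne_one this
  have hQ₀ : QQ v₀ ≠ 0 := by
    intro h
    obtain ⟨⟨x, hx, hxv⟩, -⟩ := hD.decomp.nondegenerate i₀ v₀ hv₀ hv₀0
    obtain ⟨c, hc⟩ := (finrank_eq_one_iff_of_nonzero' (⟨v₀, hv₀⟩ : D i₀)
      (fun e => hv₀0 (congrArg Subtype.val e))).1 (hD.decomp.decomp.finrank_eq i₀) ⟨x, hx⟩
    have hc' : c • v₀ = x := congrArg Subtype.val hc
    rw [← hc', QuadraticMap.polar_smul_left, CfsgLib.Spinor.polar_self', h] at hxv
    simp at hxv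
  have hv : ∀ i, ∃ v ∈ D i, QQ v = QQ v₀ := fun i => by
    obtain ⟨e, he⟩ := hD.isometric i₀ i
    exact ⟨e ⟨v₀, hv₀⟩, (e ⟨v₀, hv₀⟩).2, he ⟨v₀, hv₀⟩⟩
  choose v hvD hvQ using hv
  have hvself : ∀ i, pol (v i) (v i) = 2 * QQ v₀ := fun i => by
    rw [CfsgLib.Spinor.polar_self', hvQ]
  have horth : ∀ i j, i ≠ j → pol (v i) (v j) = 0 := fun i j hij =>
    hD.decomp.orthogonal i j hij _ (hvD i) _ (hvD j)
  let i₁ : Fin t := ⟨1, by omega⟩
  let i₂ : Fin t := ⟨2, by omega⟩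
  let i₃ : Fin t := ⟨3, by omega⟩
  have d01 : i₀ ≠ i₁ := by simp [i₀, i₁, Fin.ext_iff]
  have d02 : i₀ ≠ i₂ := by simp [i₀, i₂, Fin.ext_iff]
  have d03 : i₀ ≠ i₃ := by simp [i₀, i₃, Fin.ext_iff]
  have d12 : i₁ ≠ i₂ := by simp [i₁, i₂, Fin.ext_iff]
  have d13 : i₁ ≠ i₃ := by simp [i₁, i₃, Fin.ext_iff]
  have d23 : i₂ ≠ i₃ := by simp [i₂, i₃, Fin.ext_iff]
  set a := QQ v₀ with ha
  set u := v i₀ + v i₁ + v i₂ + v i₃ with hu
  have hQu : QQ u = 4 * a := by
    rw [hu, QuadraticMap.map_add (⇑(oddQ m F)), QuadraticMap.map_add (⇑(oddQ m F)),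
      QuadraticMap.map_add (⇑(oddQ m F))]
    simp only [QuadraticMap.polar_add_left, horth _ _ d01, horth _ _ d02, horth _ _ d03,
      horth _ _ d12, horth _ _ d13, horth _ _ d23, hvQ]
    ring
  have h4 : (4 : F) ≠ 0 := by
    rw [show (4 : F) = 2 * 2 by norm_num]
    exact mul_ne_zero h2 h2
  have hu0 : QQ u ≠ 0 := by rw [hQu]; exact mul_ne_zero h4 hQ₀
  have hv00 : v i₀ ≠ 0 := fun h => hQ₀ (by
    have := hvQ i₀
    rw [h, QuadraticMap.map_zero] at this
    exact this.symm)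
  obtain ⟨w, hw, hwu⟩ := exists_perp_one h2 hm hv00 (QQ u)
  obtain ⟨g, hg, hgm⟩ := exists_reflPair h2 hu0 hwu
  obtain ⟨σ, hσ⟩ := hle hg
  have himg := map_le_iff.1 (hσ i₀).le _ (hvD i₀)
  rw [hgm, ← Matrix.mulVec_mulVec, refl_mulVec w, QuadraticMap.polar_comm (⇑(oddQ m F)) w, hw,
    mul_zero, zero_smul, sub_zero, refl_mulVec] at himg
  set z := v i₀ - ((QQ u)⁻¹ * pol u (v i₀)) • u with hz
  have hpu : pol u (v i₀) = 2 * a := by
    rw [hu]
    simp only [QuadraticMap.polar_add_left, hvself, horth _ _ d01.symm, horth _ _ d02.symm,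
      horth _ _ d03.symm, add_zero]
  have hne : ∀ k, k ≠ i₀ → pol (v k) u = 2 * a → σ i₀ = k := by
    intro k hk hku
    by_contra hne
    have h0 : pol (v k) z = 0 := hD.decomp.orthogonal k (σ i₀) (Ne.symm hne) _ (hvD k) _ himg
    rw [hz, QuadraticMap.polar_sub_right, QuadraticMap.polar_smul_right, horth _ _ hk, hku, hpu,
      zero_sub, neg_eq_zero, smul_eq_mul] at h0
    simp [hQu, h2, h4, hQ₀] at h0
  have e1 : pol (v i₁) u = 2 * a := by
    rw [hu]
    simp only [QuadraticMap.polar_add_right, hvself, horth _ _ d01.symm, horth _ _ d12,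
      horth _ _ d13, add_zero, zero_add]
  have e2 : pol (v i₂) u = 2 * a := by
    rw [hu]
    simp only [QuadraticMap.polar_add_right, hvself, horth _ _ d02.symm, horth _ _ d12.symm,
      horth _ _ d23, add_zero, zero_add]
  exact d12 ((hne i₁ d01.symm e1).symm.trans (hne i₂ d02.symm e2))

end CfsgLib.AschbacherOrth
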