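import Cfsg.Agent.AschbacherOrth.Subfield

/-!
Reducible maximal subgroups of `Ω` in odd dimension.
-/

set_option autoImplicit false

namespace CfsgLib.AschbacherOrth

open Matrix CfsgLib.Aschbacher CfsgLib.StdForms

variable {m : ℕ} {F : Type*} [Field F]

set_option quotPrecheck false
local notation "V" => (Idx m → F)
local notation "QQ" => (⇑(oddQ m F))
local notation "pol" => QuadraticMap.polar (⇑(oddQ m F))
local notation "OO" => Cfsg.Geo.omegaGL (ι := Idx m) (F := F) (⇑(oddQ m F))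

theorem nondegenerateOn_of_inf {W : Submodule F V} (h : W ⊓ perp W = ⊥) :
    Cfsg.Geo.IsNondegenerateOn pol W := by
  intro w hw hw0
  obtain ⟨x, hx, hxw⟩ : ∃ x ∈ W, pol x w ≠ 0 := by
    by_contra hall
    push Not at hall
    have h1 : w ∈ W ⊓ perp W := ⟨hw, mem_perp.2 hall⟩
    rw [h, Submodule.mem_bot] at h1
    exact hw0 h1
  exact ⟨⟨x, hx, hxw⟩, ⟨x, hx, by rwa [QuadraticMap.polar_comm]⟩⟩

theorem inf_perp_singleton (h2 : (2 : F) ≠ 0) {a : V} (ha : QQ a ≠ 0) :
    Submodule.span F {a} ⊓ perp (Submodule.span F {a}) = ⊥ := by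
  rw [eq_bot_iff]
  rintro x ⟨hx, hxp⟩
  obtain ⟨c, rfl⟩ := Submodule.mem_span_singleton.1 hx
  have h := mem_perp.1 hxp a (Submodule.mem_span_singleton_self a)
  rw [QuadraticMap.polar_smul_right, CfsgLib.Spinor.polar_self', smul_eq_mul] at h
  simp [(mul_eq_zero.1 h).resolve_right (mul_ne_zero h2 ha)]

/-- In a plus-type plane over the field of three elements the stabiliser fixes an anisotropic line. -/
theorem exists_fixed_line [Fintype F] (h2 : (2 : F) ≠ 0) (h3 : Fintype.card F = 3)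
    {W : Submodule F V} (hW : Cfsg.Geo.IsNondegenerateOn pol W) (hd : Module.finrank F W = 2)
    (hplus : Cfsg.Geo.IsPlusTypeOn QQ W) :
    ∃ a : V, QQ a ≠ 0 ∧ ∀ g ∈ OO, g ∈ Cfsg.Geo.subspaceStabilizer W →
      g ∈ Cfsg.Geo.subspaceStabilizer (Submodule.span F {a}) := by
  obtain ⟨U, hUW, hU, hUd⟩ := hplus
  obtain ⟨u, hu, hu0⟩ : ∃ u ∈ U, u ≠ 0 := (Submodule.ne_bot_iff _).1 fun h => by
    rw [h, finrank_bot, hd] at hUd
    omega
  have hQu : QQ u = 0 := hU u hu
  obtain ⟨x, hx, hux⟩ := (hW u (hUW hu) hu0).2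
  set v := (pol u x)⁻¹ • x with hv
  have huv : pol u v = 1 := by
    rw [hv, QuadraticMap.polar_smul_right, smul_eq_mul, inv_mul_cancel₀ hux]
  have hvW : v ∈ W := hv ▸ W.smul_mem _ hx
  clear_value v
  set v' := v + (-(QQ v)) • u with hv'
  have hQv' : QQ v' = 0 := by
    rw [hv', QuadraticMap.map_add (⇑(oddQ m F)), QuadraticMap.map_smul, hQu,
      QuadraticMap.polar_smul_right, QuadraticMap.polar_comm (⇑(oddQ m F)) v u, huv]
    simp
  have huv' : pol u v' = 1 := by
    rw [hv', QuadraticMap.polar_add_right, huv, QuadraticMap.polar_smul_right,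
      CfsgLib.Spinor.polar_self', hQu]
    simp
  have hQ : ∀ α β : F, QQ (α • u + β • v') = α * β := fun α β => by
    rw [QuadraticMap.map_add (⇑(oddQ m F)), QuadraticMap.map_smul, QuadraticMap.map_smul, hQu, hQv',
      QuadraticMap.polar_smul_left, QuadraticMap.polar_smul_right, huv']
    simp
  have hv'W : v' ∈ W := by
    rw [hv']
    exact W.add_mem hvW (W.smul_mem _ (hUW hu))
  have hspan : Submodule.span F ({u, v'} : Set V) = W := by
    refine Submodule.eq_of_le_of_finrank_le ?_ ?_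
    · rw [Submodule.span_le]
      rintro z (rfl | rfl)
      exacts [hUW hu, hv'W]
    · rw [hd]
      have hli : LinearIndependent F ![u, v'] := by
        rw [LinearIndependent.pair_iff]
        intro α β h
        have h1 : pol u (α • u + β • v') = 0 := by rw [h, QuadraticMap.polar_zero_right]
        rw [QuadraticMap.polar_add_right, QuadraticMap.polar_smul_right,
          QuadraticMap.polar_smul_right, CfsgLib.Spinor.polar_self', hQu, huv'] at h1
        have hb : β = 0 := by simpa using h1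
        rw [hb, zero_smul, add_zero, smul_eq_zero] at h
        exact ⟨h.resolve_right hu0, hb⟩
      have h4 := finrank_span_eq_card hli
      rw [Matrix.range_cons_cons_empty] at h4
      rw [h4]
      simp
  refine ⟨u + v', ?_, fun g hg hgW => mem_subspaceStabilizer_iff.2 ?_⟩
  · have h := hQ 1 1
    rw [one_smul, one_smul, one_mul] at h
    rw [h]; exact one_ne_zero
  intro w hw
  obtain ⟨c, rfl⟩ := Submodule.mem_span_singleton.1 hw
  have hm : mat g *ᵥ (u + v') ∈ W := mem_subspaceStabilizer_iff.1 hgW _ (W.add_mem (hUW hu) hv'W)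
  rw [← hspan] at hm
  obtain ⟨α, β, hab⟩ := Submodule.mem_span_pair.1 hm
  have hprod : α * β = 1 := by
    rw [← hQ, hab, omega_isometry hg]
    have h := hQ 1 1
    rw [one_smul, one_smul, one_mul] at h
    exact h
  have hα : α ^ 2 = 1 := by
    have h := FiniteField.pow_card_sub_one_eq_one α (left_ne_zero_of_mul_eq_one hprod)
    rwa [h3] at h
  have hαβ : β = α := by
    calc β = α ^ 2 * β := by rw [hα, one_mul]
      _ = α := by rw [pow_two, mul_assoc, hprod, mul_one]
  rw [Matrix.mulVec_smul, ← hab, hαβ, ← smul_add]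
  exact Submodule.smul_mem _ _ (Submodule.smul_mem _ _ (Submodule.mem_span_singleton_self _))

theorem finrank_lt_of_ne_top {W : Submodule F V} (h1 : W ≠ ⊤) :
    Module.finrank F W < 2 * m + 1 := by
  refine lt_of_lt_of_eq (Submodule.finrank_lt h1) ?_
  simp
  omega

variable [Fintype F]

/-- A reducible maximal subgroup is the stabiliser of a singular or even non-degenerate subspace. -/
theorem reducible_cases (h2 : (2 : F) ≠ 0) (hm : 3 ≤ m) {H : Subgroup (GL (Idx m) F)}
    (hH : Cfsg.Geo.IsMaximalIn OO H) (hirr : ¬ Cfsg.Geo.ActsIrreducibly (Cfsg.Geo.matrixSet H)) :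
    (∃ W : Submodule F V, W ≠ ⊥ ∧ Cfsg.Geo.IsTotallySingularQuad QQ W ∧
      H = Cfsg.Geo.subspaceStabilizer W ⊓ OO) ∨
    (∃ W : Submodule F V, W ≠ ⊥ ∧ Even (Module.finrank F W) ∧ Cfsg.Geo.IsNondegenerateOn pol W ∧
      ¬ (Fintype.card F = 3 ∧ Module.finrank F W = 2 ∧ Cfsg.Geo.IsPlusTypeOn QQ W) ∧
      H = Cfsg.Geo.subspaceStabilizer W ⊓ OO) := by
  have heq : ∀ {W : Submodule F V}, W ≠ ⊥ → W ≠ ⊤ → H ≤ Cfsg.Geo.subspaceStabilizer W →
      H = Cfsg.Geo.subspaceStabilizer W ⊓ OO := fun h0 h1 hle =>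
    eq_inf_of_maximal hH hle (omega_not_le_subspaceStabilizer h2 hm h0 h1)
  rw [actsIrreducibly_iff] at hirr
  push Not at hirr
  obtain ⟨W, hW, h0, h1⟩ := hirr
  have hHp : ∀ {W : Submodule F V}, H ≤ Cfsg.Geo.subspaceStabilizer W →
      H ≤ Cfsg.Geo.subspaceStabilizer (perp W) := fun hW g hg => stabilizer_perp (hH.1.le hg) (hW hg)
  by_cases hinf : W ⊓ perp W = ⊥
  swap
  · left
    refine ⟨W ⊓ perp W, hinf, fun w hw => ?_, heq hinf (fun h => h1 (top_le_iff.1 (h ▸ inf_le_left))) ?_⟩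
    · have h := mem_perp.1 hw.2 w hw.1
      rw [CfsgLib.Spinor.polar_self'] at h
      exact (mul_eq_zero.1 h).resolve_left h2
    · intro g hg
      rw [mem_subspaceStabilizer_iff]
      exact fun w hw => ⟨mem_subspaceStabilizer_iff.1 (hW hg) w hw.1,
        mem_subspaceStabilizer_iff.1 (hHp hW hg) w hw.2⟩
  right
  obtain ⟨W₁, hW₁, hW₁0, hW₁1, hW₁e, hW₁i⟩ : ∃ W₁ : Submodule F V, H ≤ Cfsg.Geo.subspaceStabilizer W₁ ∧
      W₁ ≠ ⊥ ∧ W₁ ≠ ⊤ ∧ Even (Module.finrank F W₁) ∧ W₁ ⊓ perp W₁ = ⊥ := by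
    rcases Nat.even_or_odd (Module.finrank F W) with he | ho
    · exact ⟨W, hW, h0, h1, he, hinf⟩
    · have hlt := finrank_lt_of_ne_top h1
      have hpos : 0 < Module.finrank F W := by
        rwa [Nat.pos_iff_ne_zero, Ne, Submodule.finrank_eq_zero]
      have hfr := finrank_perp h2 W
      refine ⟨perp W, hHp hW, fun h => ?_, fun h => ?_, ?_, ?_⟩
      · rw [h, finrank_bot] at hfr; omega
      · rw [h] at hfr
        simp at hfr
        omega
      · obtain ⟨k, hk⟩ := ho
        exact ⟨m - k, by omega⟩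
      · rw [perp_perp h2, inf_comm, hinf]
  have hnd := nondegenerateOn_of_inf hW₁i
  by_cases hbad : Fintype.card F = 3 ∧ Module.finrank F W₁ = 2 ∧ Cfsg.Geo.IsPlusTypeOn QQ W₁
  · obtain ⟨hq, hd, hplus⟩ := hbad
    obtain ⟨a, ha, hfix⟩ := exists_fixed_line h2 hq hnd hd hplus
    have ha0 : a ≠ 0 := fun h => ha (by rw [h, QuadraticMap.map_zero])
    have hfr := finrank_perp h2 (Submodule.span F {a})
    rw [finrank_span_singleton ha0] at hfr
    refine ⟨perp (Submodule.span F {a}), fun h => ?_, ⟨m, by omega⟩, ?_, fun h => by omega,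
      heq (fun h => ?_) (fun h => ?_) (hHp fun g hg => hfix g (hH.1.le hg) (hW₁ hg))⟩
    · rw [h, finrank_bot] at hfr; omega
    · apply nondegenerateOn_of_inf
      rw [perp_perp h2, inf_comm, inf_perp_singleton h2 ha]
    · rw [h, finrank_bot] at hfr; omega
    · rw [h] at hfr
      simp at hfr
      omega
  · exact ⟨W₁, hW₁0, hW₁e, hnd, hbad, heq hW₁0 hW₁1 hW₁⟩

end CfsgLib.AschbacherOrth
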