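import Cfsg.Agent.AschbacherOrth.Reducible

/-!
Aschbacher's reduction for irreducible groups of isometries in odd prime dimension: the extension field and
Heisenberg cases do not occur, and monomial groups are orthogonally monomial.
-/

set_option autoImplicit false

namespace CfsgLib.AschbacherOrth

open Matrix CfsgLib.Aschbacher CfsgLib.StdForms
open scoped commutatorElement

variable {m : ℕ} {F : Type*} [Field F]

set_option quotPrecheck false
local notation "V" => (Idx m → F)
local notation "QQ" => (⇑(oddQ m F))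
local notation "pol" => QuadraticMap.polar (⇑(oddQ m F))
local notation "OO" => Cfsg.Geo.omegaGL (ι := Idx m) (F := F) (⇑(oddQ m F))

theorem card_idx : Fintype.card (Idx m) = 2 * m + 1 := by
  simp
  omega

variable [Fintype F]

theorem gram_transpose : (Cfsg.Geo.gramMatrix (F := F) (κ := Idx m) pol)ᵀ = Cfsg.Geo.gramMatrix pol := by
  ext i j
  exact QuadraticMap.polar_comm _ _ _

theorem gram_of_mem {x : GL (Idx m) F} (hx : x ∈ OO) :
    (mat x)ᵀ * Cfsg.Geo.gramMatrix pol * mat x = Cfsg.Geo.gramMatrix pol := by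
  have h := isSesq_polar.gram_of_eq (c := (1 : F)) (g := mat x)
    (fun u v => by rw [one_mul]; exact omega_polar hx u v)
  have hmap : (mat x).map ⇑(RingEquiv.refl F) = mat x := by ext i j; rfl
  rwa [hmap, one_smul] at h

/-- An extension field of full degree cannot commute with a normal subgroup of isometries. -/
theorem not_field_commutant (h2 : (2 : F) ≠ 0) (hm : 1 ≤ m) {N : Subgroup (GL (Idx m) F)}
    (hN : N ≤ OO) :
    ¬ Cfsg.Geo.IsFieldSubalgebra (Fintype.card (Idx m)) (commutant (Cfsg.Geo.matrixSet N)) := by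
  intro hK
  set K := commutant (Cfsg.Geo.matrixSet N) with hKdef
  set G := Cfsg.Geo.gramMatrix (F := F) (κ := Idx m) pol with hGdef
  have hGu : IsUnit G := gram_isUnit isSesq_polar (pol_nondegenerate h2)
  obtain ⟨Gi, hGi, hiG⟩ : ∃ Gi : Matrix (Idx m) (Idx m) F, G * Gi = 1 ∧ Gi * G = 1 :=
    ⟨↑hGu.unit⁻¹, IsUnit.mul_val_inv hGu, IsUnit.val_inv_mul hGu⟩
  have hself : ∀ k ∈ K, G * k = kᵀ * G := by
    intro k hk
    set d := k - Gi * kᵀ * G with hd
    have hkd : Gi * kᵀ * G ∈ K := by
      rw [mem_commutant, forall_matrixSet]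
      intro x hx
      have e := gram_of_mem (hN hx)
      rw [← hGdef] at e
      have hxi : mat x = Gi * (mat x⁻¹)ᵀ * G := by
        have e' := gram_of_mem (hN (inv_mem hx))
        rw [← hGdef] at e'
        calc mat x = Gi * ((mat x⁻¹)ᵀ * G * mat x⁻¹) * mat x := by rw [e', hiG, one_mul]
          _ = Gi * (mat x⁻¹)ᵀ * G * (mat x⁻¹ * mat x) := by simp only [mul_assoc]
          _ = _ := by rw [mat_inv_mul, mul_one]
      have hc : k * mat x⁻¹ = mat x⁻¹ * k :=
        ((mem_commutant.1 hk) _ (mem_matrixSet (inv_mem hx))).symm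
      rw [hxi]
      calc Gi * (mat x⁻¹)ᵀ * G * (Gi * kᵀ * G)
          = Gi * ((mat x⁻¹)ᵀ * (G * Gi) * kᵀ) * G := by simp only [mul_assoc]
        _ = Gi * (k * mat x⁻¹)ᵀ * G := by rw [hGi, mul_one, Matrix.transpose_mul]
        _ = Gi * (kᵀ * (G * Gi) * (mat x⁻¹)ᵀ) * G := by
          rw [hc, Matrix.transpose_mul, hGi, mul_one]
        _ = _ := by simp only [mul_assoc]
    have hdK : d ∈ K := K.sub_mem hk hkd
    have hGd : G * d = G * k - kᵀ * G := by
      rw [hd, mul_sub, ← mul_assoc, ← mul_assoc, hGi, one_mul]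
    by_contra hne
    have hd0 : d ≠ 0 := fun h => hne (by rw [h, mul_zero, eq_comm, sub_eq_zero] at hGd; exact hGd)
    have hskew : (G * d)ᵀ = -(G * d) := by
      rw [hGd, Matrix.transpose_sub, Matrix.transpose_mul, Matrix.transpose_mul,
        Matrix.transpose_transpose, hGdef, gram_transpose, neg_sub]
    have hdet := congrArg Matrix.det hskew
    rw [Matrix.det_transpose, Matrix.det_neg, card_idx, Odd.neg_one_pow ⟨m, rfl⟩, neg_one_mul] at hdet
    have h0 : (2 : F) * (G * d).det = 0 := by linear_combination hdet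
    obtain ⟨d', -, hdd⟩ := hK.inv d hdK hd0
    have h1 : d.det * d'.det = 1 := by rw [← Matrix.det_mul, hdd, Matrix.det_one]
    rw [Matrix.det_mul] at h0
    exact mul_ne_zero (((Matrix.isUnit_iff_isUnit_det _).1 hGu).ne_zero) (left_ne_zero_of_mul_eq_one h1)
      ((mul_eq_zero.1 h0).resolve_left h2)
  have htriv : ∀ x ∈ N, mat x = 1 := by
    intro x hx
    have hxK : mat x ∈ K := by
      rw [mem_commutant, forall_matrixSet]
      intro y hy
      exact commutative_of_field hK (fun k hk => mem_commutant.1 hk _ (mem_matrixSet hy))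
        (fun k hk => mem_commutant.1 hk _ (mem_matrixSet hx))
    have e := gram_of_mem (hN hx)
    rw [← hGdef, ← hself _ hxK] at e
    have hsq : mat x * mat x = 1 := by
      calc mat x * mat x = Gi * (G * mat x * mat x) := by
            rw [← mul_assoc, ← mul_assoc, hiG, one_mul]
        _ = 1 := by rw [e, hiG]
    by_contra hne
    obtain ⟨y, hy, hyinv⟩ := hK.inv (mat x - 1) (K.sub_mem hxK K.one_mem) (sub_ne_zero.2 hne)
    have hxm : mat x + 1 = 0 := by
      have h0 : (mat x - 1) * (mat x + 1) = 0 := by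
        rw [sub_mul, mul_add, hsq, mul_one, one_mul]; abel
      calc mat x + 1 = y * (mat x - 1) * (mat x + 1) := by
            rw [hK.comm y hy _ (K.sub_mem hxK K.one_mem), hyinv, one_mul]
        _ = 0 := by rw [mul_assoc, h0, mul_zero]
    have hdet := mem_specialLinear_iff.1 (omega_le_specialLinear (hN hx))
    rw [eq_neg_of_add_eq_zero_left hxm, Matrix.det_neg, card_idx, Odd.neg_one_pow ⟨m, rfl⟩,
      Matrix.det_one, mul_one] at hdet
    exact h2 (by linear_combination -hdet)
  have htop : K = ⊤ := by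
    rw [eq_top_iff]
    rintro M -
    rw [mem_commutant, forall_matrixSet]
    intro x hx
    rw [htriv x hx, one_mul, mul_one]
  have hfr := hK.finrank_eq
  rw [htop, ← Subalgebra.finrank_toSubmodule, Algebra.top_toSubmodule, finrank_top,
    Module.finrank_matrix, Module.finrank_self, mul_one, card_idx] at hfr
  nlinarith

/-- Aschbacher's reduction for a group of isometries in odd prime dimension. -/
theorem isometry_prime (h2 : (2 : F) ≠ 0) (hm : 1 ≤ m) (hp : (2 * m + 1).Prime)
    {H : Subgroup (GL (Idx m) F)} (hH : H ≤ OO)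
    (hirr : Cfsg.Geo.ActsIrreducibly (Cfsg.Geo.matrixSet H)) :
    (∃ N ≤ H, ∃ χ : Fin (Fintype.card (Idx m)) → N → F, Function.Injective χ ∧
      Cfsg.Geo.IsMDecomposition 1 (fun i => eigSpace N (χ i)) ∧
      H ≤ Cfsg.Geo.decompositionStabilizer fun i => eigSpace N (χ i)) ∨
    ∃ P, IsSimpleCore H P := by
  classical
  have hp' : (Fintype.card (Idx m)).Prime := card_idx (m := m) ▸ hp
  have hHH : Normalizes H H := fun h hh x hx => mul_mem (mul_mem hh hx) (inv_mem hh)
  have habsH := (irred_field_or_absIrred hp' hirr).resolve_left (not_field_commutant h2 hm hH)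
  let Z := H ⊓ Cfsg.Geo.scalars (Idx m) F
  have hHZ : ¬ H ≤ Cfsg.Geo.scalars (Idx m) F := by
    intro h
    obtain ⟨i, j, hij⟩ := Fintype.exists_pair_of_one_lt_card (α := Idx m) hp'.one_lt
    obtain ⟨c, hc⟩ := commute_of_absIrred habsH (M := Matrix.single i j (1 : F)) fun x hx => by
      obtain ⟨d, hd⟩ := (Cfsg.Geo.mem_scalars_iff x).1 (h hx)
      rw [show mat x = (d : F) • 1 from hd, Matrix.smul_mul, Matrix.mul_smul, one_mul, mul_one]
    have h1 := congrFun (congrFun hc i) j
    simp [hij] at h1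
  let S : Set (Subgroup (GL (Idx m) F)) := {N | Z < N ∧ N ≤ H ∧ Normalizes H N}
  obtain ⟨N, ⟨hZN, hNH, hn⟩, hNmin⟩ := (wellFounded_lt (α := Subgroup (GL (Idx m) F))).has_min S
    ⟨H, lt_of_le_of_ne inf_le_left fun h => hHZ (h ▸ inf_le_right), le_rfl, hHH⟩
  have hZ : ∀ x ∈ N, x ∈ Cfsg.Geo.scalars (Idx m) F → x ∈ Z := fun x hx hs => ⟨hNH hx, hs⟩
  have hNs : ¬ N ≤ Cfsg.Geo.scalars (Idx m) F := fun h =>
    hZN.not_ge fun x hx => hZ x hx (h hx)
  have hmin : ∀ M ≤ N, Normalizes H M → M ≤ Z ∨ M ⊔ Z = N := by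
    intro M hM hMn
    by_cases h : M ≤ Z
    · exact Or.inl h
    refine Or.inr (by_contra fun hne => ?_)
    have hle : M ⊔ Z ≤ N := sup_le hM hZN.le
    refine hNmin (M ⊔ Z) ⟨lt_of_le_of_ne le_sup_right fun he => h (he ▸ le_sup_left),
      hle.trans hNH, ?_⟩ (lt_of_le_of_ne hle hne)
    intro g hg x hx
    obtain ⟨a, ha, s, hs, rfl⟩ := Subgroup.mem_sup_of_normal_right.1
      ((sup_le_sup_left (inf_le_right : Z ≤ _) M) hx)
    have hsZ : s ∈ Z := by
      refine hZ s ?_ hs
      simpa using mul_mem (inv_mem (hM ha)) (hle hx)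
    rw [conj_mul_scalar hs]
    exact mul_mem (Subgroup.mem_sup_left (hMn g hg a ha)) (Subgroup.mem_sup_right hsZ)
  rcases clifford_prime hp' hirr hn with h1 | h1 | ⟨-, χ, hχ, hD, hst⟩
  · have habs := (irred_field_or_absIrred hp' h1).resolve_left
      (not_field_commutant h2 hm (hNH.trans hH))
    by_cases hD : ⁅N, N⁆ ≤ Cfsg.Geo.scalars (Idx m) F
    · exfalso
      apply hNs
      intro x hx
      refine mem_scalars_of_commute habs fun y hy => ?_
      rw [← commutatorElement_eq_one_iff_mul_comm]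
      have hz := hD (Subgroup.commutator_mem_commutator hx hy)
      have hzN : ⁅x, y⁆ ∈ OO := hH (hNH (by
        rw [commutatorElement_def]
        exact mul_mem (mul_mem (mul_mem hx hy) (inv_mem hx)) (inv_mem hy)))
      obtain ⟨c, hc⟩ := (Cfsg.Geo.mem_scalars_iff _).1 hz
      have hne0 : (Pi.single (Sum.inl ()) 1 : V) ≠ 0 := fun h => by
        simpa using congrFun h (Sum.inl ())
      obtain ⟨v, hv⟩ := exists_pol_eq_one h2 hne0
      have hcc : (c : F) * c = 1 := by
        have e := omega_polar hzN (Pi.single (Sum.inl ()) 1) v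
        rw [show mat ⁅x, y⁆ = (c : F) • 1 from hc, Matrix.smul_mulVec, Matrix.one_mulVec,
          Matrix.smul_mulVec, Matrix.one_mulVec, QuadraticMap.polar_smul_left,
          QuadraticMap.polar_smul_right, hv] at e
        simpa using e
      have hdet := mem_specialLinear_iff.1 (omega_le_specialLinear hzN)
      rw [show mat ⁅x, y⁆ = (c : F) • 1 from hc, Matrix.det_smul, Matrix.det_one, mul_one, card_idx,
        pow_succ, pow_mul, pow_two, hcc, one_pow, one_mul] at hdet
      exact Units.ext (by rw [hc, hdet, one_smul, Units.val_one])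
    · exact Or.inr ⟨_, exists_simpleCore hp' inf_le_right hNH hn hZN.le hZ hmin habs hD⟩
  · exact absurd h1 hNs
  · exact Or.inl ⟨N, hNH, χ, hχ, hD, hst⟩

/-- A property of the members of a decomposition preserved by an irreducible group holds for all or none. -/
theorem decomposition_all_or_none {ι : Type} [Fintype ι] [DecidableEq ι] {H : Subgroup (GL ι F)}
    (hirr : Cfsg.Geo.ActsIrreducibly (Cfsg.Geo.matrixSet H)) {t : ℕ}
    {D : Fin t → Submodule F (ι → F)} (hD : Cfsg.Geo.IsMDecomposition 1 D)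
    (hst : H ≤ Cfsg.Geo.decompositionStabilizer D) (p : Fin t → Prop)
    (hpinv : ∀ g ∈ H, ∀ i j, (D i).map (Matrix.toLin' (mat g)) = D j → p i → p j) :
    (∀ i, ¬ p i) ∨ ∀ i, p i := by
  classical
  have hne : ∀ i, D i ≠ ⊥ := fun i h => by
    have := hD.finrank_eq i
    rw [h, finrank_bot] at this
    exact zero_ne_one this
  let U : Submodule F (ι → F) := ⨆ i, ⨆ (_ : p i), D i
  have hU : H ≤ Cfsg.Geo.subspaceStabilizer U := by
    intro g hg
    rw [mem_subspaceStabilizer_iff, ← map_le_iff, Submodule.map_iSup]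
    refine iSup_le fun i => ?_
    rw [Submodule.map_iSup]
    refine iSup_le fun hi => ?_
    obtain ⟨σ, hσ⟩ := hst hg
    rw [hσ i]
    exact le_iSup₂_of_le (σ i) (hpinv g hg i (σ i) (hσ i) hi) le_rfl
  rcases (actsIrreducibly_iff.1 hirr) U hU with h | h
  · exact Or.inl fun i hi => hne i (le_bot_iff.1 (h ▸ le_iSup₂_of_le i hi le_rfl))
  · refine Or.inr fun i => by_contra fun hi => hne i ?_
    refine le_bot_iff.1 ((hD.indep i) le_rfl (le_trans le_top (h.ge.trans ?_)))
    exact iSup_le fun j => iSup_le fun hj => le_iSup₂_of_le j (fun e => hi (e ▸ hj)) le_rfl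

theorem line_eq_smul {ι : Type} {D : Submodule F (ι → F)} (hD : Module.finrank F D = 1)
    {v : ι → F} (hv : v ∈ D) (hv0 : v ≠ 0) {x : ι → F} (hx : x ∈ D) : ∃ c : F, c • v = x := by
  obtain ⟨c, hc⟩ := (finrank_eq_one_iff_of_nonzero' (⟨v, hv⟩ : D)
    (fun e => hv0 (congrArg Subtype.val e))).1 hD ⟨x, hx⟩
  exact ⟨c, congrArg Subtype.val hc⟩

/-- The monomial case: the lines are orthogonal and pairwise isometric. -/
theorem orthogonal_monomial (h2 : (2 : F) ≠ 0)
    {H N : Subgroup (GL (Idx m) F)} (hH : H ≤ OO) (hNH : N ≤ H)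
    (hirr : Cfsg.Geo.ActsIrreducibly (Cfsg.Geo.matrixSet H))
    {χ : Fin (Fintype.card (Idx m)) → N → F} (hχ : Function.Injective χ)
    (hD : Cfsg.Geo.IsMDecomposition 1 (fun i => eigSpace N (χ i)))
    (hst : H ≤ Cfsg.Geo.decompositionStabilizer fun i => eigSpace N (χ i)) :
    Cfsg.Geo.IsOrthogonalMDecomposition QQ 1 (fun i => eigSpace N (χ i)) := by
  classical
  set D := fun i => eigSpace N (χ i) with hDdef
  have hex : ∀ i, ∃ v, v ∈ D i ∧ v ≠ 0 := fun i => (Submodule.ne_bot_iff _).1 fun h => by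
    have := hD.finrank_eq i
    rw [h, finrank_bot] at this
    exact zero_ne_one this
  choose v hv hv0 using hex
  have hline : ∀ i, ∀ x ∈ D i, ∃ c : F, c • v i = x := fun i x hx =>
    line_eq_smul (hD.finrank_eq i) (hv i) (hv0 i) hx
  have hpair : ∀ i j, pol (v i) (v j) ≠ 0 → ∀ x, χ i x * χ j x = 1 := by
    intro i j hij x
    have e := omega_polar (hH (hNH x.2)) (v i) (v j)
    rw [mem_eigSpace.1 (hv i) x, mem_eigSpace.1 (hv j) x, QuadraticMap.polar_smul_left,
      QuadraticMap.polar_smul_right, smul_eq_mul, smul_eq_mul, ← mul_assoc] at e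
    exact (mul_eq_right₀ hij).1 e
  have huniq : ∀ i j k, pol (v i) (v j) ≠ 0 → pol (v i) (v k) ≠ 0 → j = k := by
    intro i j k hj hk
    apply hχ
    funext x
    have h1 := hpair i j hj x
    exact mul_left_cancel₀ (left_ne_zero_of_mul_eq_one h1) (h1.trans (hpair i k hk x).symm)
  have hexj : ∀ i, ∃ j, pol (v i) (v j) ≠ 0 := by
    intro i
    by_contra hall
    push Not at hall
    obtain ⟨⟨x, hx⟩, -⟩ := pol_nondegenerate h2 (v i) (hv0 i)
    apply hx
    have htop : iSup D ≤ LinearMap.ker (QuadraticMap.polarBilin (oddQ m F) (v i)) :=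
      iSup_le fun j y hy => by
        obtain ⟨c, rfl⟩ := hline j y hy
        rw [LinearMap.mem_ker, QuadraticMap.polarBilin_apply_apply, QuadraticMap.polar_smul_right,
          hall j, smul_zero]
    rw [hD.iSup_eq_top] at htop
    rw [QuadraticMap.polar_comm]
    exact LinearMap.mem_ker.1 (htop trivial)
  have haniso : ∀ i, QQ (v i) ≠ 0 := by
    rcases decomposition_all_or_none hirr hD hst (fun i => QQ (v i) ≠ 0) (fun g hg i j hmap hi => by
        obtain ⟨c, hc⟩ := hline j _ (map_le_iff.1 hmap.le _ (hv i))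
        intro h0
        apply hi
        rw [← omega_isometry (hH hg) (v i), ← hc, QuadraticMap.map_smul, h0, smul_zero]) with h | h
    · exfalso
      simp only [not_not] at h
      choose τ hτ using hexj
      have hττ : ∀ i, τ (τ i) = i := fun i =>
        huniq (τ i) (τ (τ i)) i (hτ _) (by rw [QuadraticMap.polar_comm]; exact hτ i)
      have hτne : ∀ i, τ i ≠ i := fun i e => by
        have := hτ i
        rw [e, CfsgLib.Spinor.polar_self', h i, mul_zero] at this
        exact this rfl
      let σ : Equiv.Perm (Fin (Fintype.card (Idx m))) := Function.Involutive.toPerm τ hττ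
      have hsupp : σ.support = Finset.univ :=
        Finset.eq_univ_iff_forall.2 fun i => Equiv.Perm.mem_support.2 (hτne i)
      have hdvd := Equiv.Perm.two_dvd_card_support (σ := σ) (by
        rw [pow_two]
        exact Equiv.ext hττ)
      rw [hsupp, Finset.card_univ, Fintype.card_fin, card_idx] at hdvd
      omega
    · exact h
  have horth : ∀ i j, i ≠ j → Cfsg.Geo.AreOrthogonalFor pol (D i) (D j) := by
    intro i j hij x hx y hy
    obtain ⟨a, rfl⟩ := hline i x hx
    obtain ⟨b, rfl⟩ := hline j y hy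
    have h0 : pol (v i) (v j) = 0 := by
      by_contra hne
      refine hij (huniq i i j ?_ hne)
      rw [CfsgLib.Spinor.polar_self']
      exact mul_ne_zero h2 (haniso i)
    rw [QuadraticMap.polar_smul_left, QuadraticMap.polar_smul_right, h0, smul_zero, smul_zero]
  refine ⟨⟨hD, fun i w hw hw0 => ?_, horth⟩, fun i j => ?_⟩
  · obtain ⟨c, rfl⟩ := hline i w hw
    have hne : pol (c • v i) (v i) ≠ 0 := by
      rw [QuadraticMap.polar_smul_left, CfsgLib.Spinor.polar_self', smul_eq_mul]
      exact mul_ne_zero (fun h => hw0 (by rw [h, zero_smul])) (mul_ne_zero h2 (haniso i))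
    exact ⟨⟨v i, hv i, by rwa [QuadraticMap.polar_comm]⟩, ⟨v i, hv i, hne⟩⟩
  · rcases decomposition_all_or_none hirr hD hst
      (fun k => ∃ g ∈ H, (D i).map (Matrix.toLin' (mat g)) = D k) (fun g hg a b hab ⟨k, hk, hka⟩ => by
        refine ⟨g * k, H.mul_mem hg hk, ?_⟩
        rw [mat, Units.val_mul, Matrix.toLin'_mul, Submodule.map_comp, hka]
        exact hab) with h | h
    · exact absurd ⟨1, H.one_mem, by simp [mat]⟩ (h i)
    · obtain ⟨g, hg, hgj⟩ := h j
      refine ⟨((D i).equivMapOfInjective (Matrix.toLin' (mat g)) (map_toLin'_injective g)).trans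
        (LinearEquiv.ofEq _ _ hgj), fun w => ?_⟩
      simp only [LinearEquiv.trans_apply, LinearEquiv.coe_ofEq_apply,
        Submodule.coe_equivMapOfInjective_apply, Matrix.toLin'_apply]
      exact omega_isometry (hH hg) _

end CfsgLib.AschbacherOrth
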