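import Cfsg.Agent.AschbacherOrth.Omega

/-!
Subfield groups of `Ω` in odd dimension: `Ω` lies in none of them, and a structure over a subfield on which the form
is rational up to a scalar can be rescaled so that it carries the form.
-/

set_option autoImplicit false

namespace CfsgLib.AschbacherOrth

open Matrix CfsgLib.Aschbacher CfsgLib.StdForms

variable {m : ℕ} {F : Type*} [Field F]

set_option quotPrecheck false
local notation "V" => (Idx m → F)
local notation "QQ" => (⇑(oddQ m F))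
local notation "pol" => QuadraticMap.polar (⇑(oddQ m F))
local notation "OO" => Cfsg.Geo.omegaGL (ι := Idx m) (F := F) (⇑(oddQ m F))

theorem det_mem_subfield {ι : Type} [Fintype ι] [DecidableEq ι] {F₁ : Subfield F}
    {M : Matrix ι ι F} (h : ∀ i j, M i j ∈ F₁) : M.det ∈ F₁ := by
  let M₁ : Matrix ι ι F₁ := fun i j => ⟨M i j, h i j⟩
  have e : M = F₁.subtype.mapMatrix M₁ := by ext i j; rfl
  rw [e, ← RingHom.map_det]
  exact (M₁.det).2

theorem mul_mem_subfield {ι : Type} [Fintype ι] [DecidableEq ι] {F₁ : Subfield F}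
    {A B : Matrix ι ι F} (hA : ∀ i j, A i j ∈ F₁) (hB : ∀ i j, B i j ∈ F₁) :
    ∀ i j, (A * B) i j ∈ F₁ := fun i j => by
  rw [Matrix.mul_apply]
  exact F₁.sum_mem fun k _ => F₁.mul_mem (hA i k) (hB k j)

theorem mem_of_pow_card {F₁ : Subfield F} {c : F} (hc : c ≠ 0) (h2 : c ^ 2 ∈ F₁)
    (hn : c ^ (2 * m + 1) ∈ F₁) : c ∈ F₁ := by
  have e : c = c ^ (2 * m + 1) / (c ^ 2) ^ m := by
    rw [pow_succ, pow_mul, mul_comm, mul_div_assoc, div_self (pow_ne_zero _ (pow_ne_zero _ hc)),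
      mul_one]
  rw [e]
  exact div_mem hn (pow_mem h2 m)

theorem involution_entries {F₁ : Subfield F} {P g : GL (Idx m) F}
    (hg : g ∈ Cfsg.Geo.specialLinear (Idx m) F) (hgg : mat g * mat g = 1)
    (hmem : g ∈ Cfsg.Geo.subfieldSubgroup F₁ P) :
    ∀ i j, (mat P⁻¹ * mat g * mat P) i j ∈ F₁ := by
  obtain ⟨c, hc0, hc⟩ := exists_smul_of_mem_subfieldSubgroup hmem
  set A := mat P⁻¹ * mat g * mat P with hA
  have hAA : A * A = 1 := by
    calc A * A = mat P⁻¹ * mat g * (mat P * mat P⁻¹) * mat g * mat P := by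
          simp only [hA, mul_assoc]
      _ = mat P⁻¹ * (mat g * mat g) * mat P := by rw [mat_mul_inv]; simp only [mul_one, mul_assoc]
      _ = 1 := by rw [hgg, mul_one, mat_inv_mul]
  have hdet : A.det = 1 := by
    rw [hA, Matrix.det_mul, Matrix.det_mul, mem_specialLinear_iff.1 hg, mul_one, ← Matrix.det_mul,
      mat_inv_mul, Matrix.det_one]
  have hcA : ∀ i j, (c • A) i j ∈ F₁ := hc
  have h2 : c ^ 2 ∈ F₁ := by
    have h := mul_mem_subfield hcA hcA (Sum.inl ()) (Sum.inl ())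
    rw [Matrix.smul_mul, Matrix.mul_smul, hAA] at h
    simpa [pow_two] using h
  have hn : c ^ (2 * m + 1) ∈ F₁ := by
    have h := det_mem_subfield hcA
    rw [Matrix.det_smul, hdet, mul_one] at h
    convert h using 2
    simp
    omega
  have hcF : c ∈ F₁ := mem_of_pow_card hc0 h2 hn
  intro i j
  have e : A i j = c⁻¹ * (c * A i j) := by field_simp
  rw [e]
  exact F₁.mul_mem (F₁.inv_mem hcF) (hcA i j)

/-- A vector supported on one hyperbolic pair. -/
def pairVec (i : Fin m) (a b : F) : V :=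
  Pi.single (Sum.inr (Sum.inl i)) a + Pi.single (Sum.inr (Sum.inr i)) b

theorem quad_pairVec (i : Fin m) (a b : F) : QQ (pairVec i a b) = a * b := by
  rw [oddQ_apply]
  simp [Cfsg.quadFormOdd, pairVec, Pi.single_apply]

theorem polar_pairVec (i j : Fin m) (a b c d : F) :
    pol (pairVec i a b) (pairVec j c d) = if i = j then a * d + c * b else 0 := by
  rw [polar_odd]
  rcases eq_or_ne i j with rfl | hij
  · simp [pairVec, Pi.single_apply, Finset.sum_add_distrib]
  · simp [pairVec, Pi.single_apply, Finset.sum_add_distrib, hij, Ne.symm hij]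

theorem reflectionMatrix_comm {u s : V} (hu : QQ u ≠ 0) (hus : pol u s = 0) :
    Cfsg.reflectionMatrix QQ u * Cfsg.reflectionMatrix QQ s =
      Cfsg.reflectionMatrix QQ s * Cfsg.reflectionMatrix QQ u := by
  have h := CfsgLib.Spinor.mat_mul_reflectionMatrix (oddQ m F)
    (CfsgLib.Spinor.reflIso (oddQ m F) u hu) s
  rw [CfsgLib.Spinor.mat_reflIso] at h
  rw [h, refl_mulVec, hus, mul_zero, zero_smul, sub_zero]

variable [Fintype F]

/-- `Ω` is contained in no subfield group. -/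
theorem omega_not_le_subfieldSubgroup (h2 : (2 : F) ≠ 0) (hm : 3 ≤ m) {F₁ : Subfield F}
    (hF : F₁ ≠ ⊤) (P : GL (Idx m) F) : ¬ OO ≤ Cfsg.Geo.subfieldSubgroup F₁ P := by
  intro hle
  apply hF
  rw [eq_top_iff]
  rintro x -
  suffices key : ∀ t : F, t * t ∈ F₁ by
    have e : x = ((x + 1) * (x + 1) - x * x - 1) / 2 := by field_simp; ring
    rw [e]
    exact div_mem (F₁.sub_mem (F₁.sub_mem (key _) (key _)) F₁.one_mem)
      (by rw [← one_add_one_eq_two]; exact F₁.add_mem F₁.one_mem F₁.one_mem)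
  intro t
  let i₀ : Fin m := ⟨0, by omega⟩
  let i₁ : Fin m := ⟨1, by omega⟩
  let i₂ : Fin m := ⟨2, by omega⟩
  have d01 : i₀ ≠ i₁ := by simp [i₀, i₁, Fin.ext_iff]
  have d02 : i₀ ≠ i₂ := by simp [i₀, i₂, Fin.ext_iff]
  have d12 : i₁ ≠ i₂ := by simp [i₁, i₂, Fin.ext_iff]
  let u : V := pairVec i₀ 1 1
  let w : V := pairVec i₀ t 0 + pairVec i₁ 1 1
  let s : V := pairVec i₂ 1 1
  have hu : QQ u = 1 := by simp [u, quad_pairVec]
  have hs : QQ s = 1 := by simp [s, quad_pairVec]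
  have hw : QQ w = 1 := by
    simp [w, QuadraticMap.map_add (⇑(oddQ m F)), quad_pairVec, polar_pairVec, d01]
  have huw : pol u w = t := by
    simp [u, w, QuadraticMap.polar_add_right, polar_pairVec, d01]
  have hus : pol u s = 0 := by simp [u, s, polar_pairVec, d02]
  have hsw : pol s w = 0 := by
    simp [s, w, QuadraticMap.polar_add_right, polar_pairVec, d02.symm, d12.symm]
  have hu0 : QQ u ≠ 0 := by rw [hu]; exact one_ne_zero
  have hs0 : QQ s ≠ 0 := by rw [hs]; exact one_ne_zero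
  have hw0 : QQ w ≠ 0 := by rw [hw]; exact one_ne_zero
  obtain ⟨g, hg, hgm⟩ := exists_reflPair h2 hu0 (hs.trans hu.symm)
  obtain ⟨k, hk, hkm⟩ := exists_reflPair h2 hs0 (hw.trans hs.symm)
  have sq : ∀ {a b : V}, QQ a ≠ 0 → QQ b ≠ 0 → pol a b = 0 →
      Cfsg.reflectionMatrix QQ a * Cfsg.reflectionMatrix QQ b *
        (Cfsg.reflectionMatrix QQ a * Cfsg.reflectionMatrix QQ b) = 1 := fun {a b} ha hb hab => by
    nth_rewrite 2 [reflectionMatrix_comm ha hab]
    rw [mul_assoc, ← mul_assoc _ (Cfsg.reflectionMatrix QQ b) (Cfsg.reflectionMatrix QQ a),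
      CfsgLib.Spinor.reflectionMatrix_mul_self _ hb, one_mul,
      CfsgLib.Spinor.reflectionMatrix_mul_self _ ha]
  have hgk := mul_mem_subfield
    (involution_entries (omega_le_specialLinear hg) (by rw [hgm]; exact sq hu0 hs0 hus) (hle hg))
    (involution_entries (omega_le_specialLinear hk) (by rw [hkm]; exact sq hs0 hw0 hsw) (hle hk))
  have hprod : mat P⁻¹ * mat g * mat P * (mat P⁻¹ * mat k * mat P) =
      mat P⁻¹ * (Cfsg.reflectionMatrix QQ u * Cfsg.reflectionMatrix QQ w) * mat P := by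
    calc mat P⁻¹ * mat g * mat P * (mat P⁻¹ * mat k * mat P)
        = mat P⁻¹ * (mat g * (mat P * mat P⁻¹) * mat k) * mat P := by simp only [mul_assoc]
      _ = mat P⁻¹ * (mat g * mat k) * mat P := by rw [mat_mul_inv, mul_one]
      _ = _ := by
        rw [hgm, hkm, mul_assoc (Cfsg.reflectionMatrix QQ u), ← mul_assoc (Cfsg.reflectionMatrix QQ s),
          CfsgLib.Spinor.reflectionMatrix_mul_self _ hs0, one_mul]
  rw [hprod] at hgk
  have htr : (mat P⁻¹ * (Cfsg.reflectionMatrix QQ u * Cfsg.reflectionMatrix QQ w) * mat P).trace ∈ F₁ :=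
    F₁.sum_mem fun i _ => hgk i i
  rw [Matrix.trace_units_conj'] at htr
  have hcard : (Fintype.card (Idx m) : F) = 2 * m + 1 := by simp; ring
  have hval : (Cfsg.reflectionMatrix QQ u * Cfsg.reflectionMatrix QQ w).trace = 2 * m + 1 - 4 + t * t := by
    simp only [Cfsg.reflectionMatrix, hu, hw, inv_one, one_smul, sub_mul, mul_sub, one_mul, mul_one,
      Matrix.vecMulVec_mul_vecMulVec, Matrix.trace_sub, Matrix.trace_one, Matrix.trace_vecMulVec,
      dotProduct_smul, smul_eq_mul, hcard]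
    rw [dotProduct_comm u (Cfsg.polarVec QQ u), dotProduct_comm w (Cfsg.polarVec QQ w),
      dotProduct_comm u (Cfsg.polarVec QQ w)]
    simp only [CfsgLib.Spinor.polarVec_dot, CfsgLib.Spinor.polar_self', hu, hw, huw,
      QuadraticMap.polar_comm (⇑(oddQ m F)) w u]
    ring
  rw [hval] at htr
  have hc : (2 * m + 1 - 4 : F) ∈ F₁ := by
    have h1 : ((2 * (m : ℤ) + 1 - 4 : ℤ) : F) ∈ F₁ := intCast_mem F₁ _
    push_cast at h1
    exact h1
  simpa using F₁.sub_mem htr hc

theorem quad_mem_subfield {F₁ : Subfield F} {v : V} (hv : ∀ i, v i ∈ F₁) : QQ v ∈ F₁ := by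
  rw [oddQ_apply]
  exact F₁.add_mem (pow_mem (hv _) 2) (F₁.sum_mem fun i _ => F₁.mul_mem (hv _) (hv _))

theorem gram_mem_subfield (F₁ : Subfield F) (i j : Idx m) :
    Cfsg.Geo.gramMatrix pol i j ∈ F₁ := by
  have hsingle : ∀ a k : Idx m, (Pi.single a (1 : F) : V) k ∈ F₁ := fun a k => by
    rw [Pi.single_apply]
    split_ifs
    · exact F₁.one_mem
    · exact F₁.zero_mem
  simp only [Cfsg.Geo.gramMatrix, QuadraticMap.polar]
  exact F₁.sub_mem (F₁.sub_mem (quad_mem_subfield fun k => F₁.add_mem (hsingle i k) (hsingle j k))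
    (quad_mem_subfield (hsingle i))) (quad_mem_subfield (hsingle j))

theorem isSesq_polar : IsSesq (RingEquiv.refl F) (pol) where
  add_left x y v := QuadraticMap.polar_add_left _ x y v
  smul_left c x v := QuadraticMap.polar_smul_left _ c x v
  add_right v x y := QuadraticMap.polar_add_right _ v x y
  smul_right c v x := QuadraticMap.polar_smul_right _ c v x

theorem pol_nondegenerate (h2 : (2 : F) ≠ 0) : Cfsg.Geo.IsNondegenerateForm (ι := Idx m) pol := by
  intro v hv
  obtain ⟨s, hs⟩ := exists_pol_eq_one h2 hv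
  refine ⟨⟨s, ?_⟩, ⟨s, ?_⟩⟩
  · rw [QuadraticMap.polar_comm, hs]; exact one_ne_zero
  · rw [hs]; exact one_ne_zero

theorem pol_mulVec (B : Matrix (Idx m) (Idx m) F) (u v : V) :
    pol (B *ᵥ u) (B *ᵥ v) = u ⬝ᵥ ((Bᵀ * Cfsg.Geo.gramMatrix pol * B) *ᵥ v) := by
  rw [isSesq_polar.gram_transform]
  have hmap : B.map ⇑(RingEquiv.refl F) = B := by ext i j; rfl
  rw [hmap]
  rfl

/-- Rescaling a structure on which the form is rational up to a scalar. -/
theorem exists_rescale (h2 : (2 : F) ≠ 0) {F₁ : Subfield F} {B : GL (Idx m) F}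
    {M₀ : Matrix (Idx m) (Idx m) F} {c : F} (hM₀ : ∀ i j, M₀ i j ∈ F₁)
    (hB : (mat B)ᵀ * Cfsg.Geo.gramMatrix pol * mat B = c • M₀) :
    ∃ s : Fˣ, Cfsg.Geo.IsQuadFormRationalStructure QQ F₁ (B * scalarGL s) := by
  have hG : (Cfsg.Geo.gramMatrix pol).det ≠ 0 :=
    ((Matrix.isUnit_iff_isUnit_det _).1 (gram_isUnit isSesq_polar (pol_nondegenerate h2))).ne_zero
  have hdB : (mat B).det ≠ 0 := ((Matrix.isUnit_iff_isUnit_det _).1 B.isUnit).ne_zero
  have hd := congrArg Matrix.det hB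
  rw [Matrix.det_mul, Matrix.det_mul, Matrix.det_transpose, Matrix.det_smul] at hd
  have hcard : Fintype.card (Idx m) = 2 * m + 1 := by simp; omega
  rw [hcard] at hd
  have hne : (mat B).det * (Cfsg.Geo.gramMatrix pol).det * (mat B).det ≠ 0 :=
    mul_ne_zero (mul_ne_zero hdB hG) hdB
  have hc : c ≠ 0 := by rintro rfl; exact hne (by rw [hd]; simp)
  have hM : M₀.det ≠ 0 := by intro h; exact hne (by rw [hd, h, mul_zero])
  set κ := (Cfsg.Geo.gramMatrix pol).det / M₀.det with hκ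
  have hκF : κ ∈ F₁ := div_mem (det_mem_subfield (gram_mem_subfield F₁)) (det_mem_subfield hM₀)
  refine ⟨Units.mk0 (c ^ m / (mat B).det) (div_ne_zero (pow_ne_zero _ hc) hdB), fun u hu => ?_⟩
  set s := c ^ m / (mat B).det with hs
  have hsc : s * s * c = κ := by
    rw [hs, hκ]
    field_simp
    rw [← pow_mul]
    linear_combination (-1 : F) * hd
  have hmat : mat (B * scalarGL (Units.mk0 s (div_ne_zero (pow_ne_zero _ hc) hdB))) = s • mat B := by
    show mat B * mat (scalarGL (Units.mk0 s _)) = _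
    rw [mat_scalarGL, Matrix.mul_smul, mul_one, Units.val_mk0]
  have h1 : pol ((s • mat B) *ᵥ u) ((s • mat B) *ᵥ u) = κ * (u ⬝ᵥ (M₀ *ᵥ u)) := by
    rw [pol_mulVec, Matrix.transpose_smul, Matrix.smul_mul, Matrix.smul_mul, Matrix.mul_smul, hB,
      smul_smul, smul_smul, Matrix.smul_mulVec, dotProduct_smul, smul_eq_mul, hsc]
  show QQ (mat (B * scalarGL _) *ᵥ u) ∈ F₁
  rw [hmat]
  rw [CfsgLib.Spinor.polar_self'] at h1
  rw [(eq_div_iff h2).2 ((mul_comm _ _).trans h1)]
  refine div_mem (F₁.mul_mem hκF (F₁.sum_mem fun i _ => F₁.mul_mem (hu i) ?_))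
    (by rw [← one_add_one_eq_two]; exact F₁.add_mem F₁.one_mem F₁.one_mem)
  exact (F₁.sum_mem fun j _ => F₁.mul_mem (hM₀ i j) (hu j) : ∑ j, M₀ i j * u j ∈ F₁)

end CfsgLib.AschbacherOrth
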